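import Groth.Agent.Curves.K328.SubGen

/-!
# Adding a section to an invertible submodule

`X` integral with all local rings valuation rings, `ι : N ⟶ M` a monomorphism of invertible modules, `t` a global
section of `M`: the submodule `N' = N + O t` of `M` is invertible (`exists_add`).
-/

set_option autoImplicit false
universe u
open CategoryTheory CategoryTheory.Limits AlgebraicGeometry Opposite TopologicalSpace
open Groth.Agent.Fdesc.LocGen Groth.Agent.Old.H24.MulHom
open Groth.Agent.CurvesB.InvEmb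

namespace K328.AddSec

variable {X : Scheme.{u}} [IsIntegral X]

open K328.SubGen

/-- If the sections of `N` are locally combinations of `s'` and `t' = a s'` then `s'` generates `N`. -/
theorem isGen_local {N : X.Modules} (hN : Groth.Agent.CurvesB.RankOne.LocEmb N) {V : X.Opens} {s' t' : Γ(N, V)}
    (hs : s' ≠ 0)
    (hloc : ∀ (U : X.Opens) (hU : U ≤ V) (n : Γ(N, U)) (x : X), x ∈ U → ∃ (W : X.Opens) (h : W ≤ U), x ∈ W ∧
      ∃ α β : Γ(X, W), res N h n = α • res N (h.trans hU) s' + β • res N (h.trans hU) t')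
    (a : Γ(X, V)) (ha : t' = a • s') : IsGen s' := by
  intro W hW
  have hinj : ∀ (W : X.Opens) (hW : W ≤ V) (b : Γ(X, W)), b • res N hW s' = 0 → b = 0 := by
    intro W hW b hb
    by_contra hb0
    have h1 := hN.smul_eq_zero b _ hb hb0
    have hW' : (W : Set X).Nonempty := by
      rw [Set.nonempty_iff_ne_empty]
      intro h0
      apply hb0
      have : X.basicOpen b = ⊥ := by
        rw [eq_bot_iff]
        intro x hx
        have := X.basicOpen_le b hx
        rw [← SetLike.mem_coe, h0] at this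
        exact this
      exact (basicOpen_eq_bot_iff b).1 this
    exact hs (hN.eq_zero hW hW' s' h1)
  have hinj' : ∀ (W : X.Opens) (hW : W ≤ V), Function.Injective (fun b : Γ(X, W) => b • res N hW s') := by
    intro W hW b b' hbb
    have : (b - b') • res N hW s' = 0 := by
      rw [sub_smul, sub_eq_zero]; exact hbb
    exact sub_eq_zero.1 (hinj W hW _ this)
  refine ⟨hinj' W hW, fun n => ?_⟩
  choose! T hT hxT α β hαβ using fun x (hx : x ∈ W) => hloc W hW n x hx
  have hcov : W ≤ ⨆ x : W, T x.1 := fun x hx => Opens.mem_iSup.mpr ⟨⟨x, hx⟩, hxT x hx⟩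
  have key : ∀ x : W, res N (hT x.1 x.2) n =
      (α x.1 + β x.1 * ores ((hT x.1 x.2).trans hW) a) • res N ((hT x.1 x.2).trans hW) s' := by
    intro x
    rw [hαβ x.1 x.2, add_smul, mul_smul, ha, res_smul]
  obtain ⟨b, hb⟩ := ores_glue (X := X) (fun x : W => T x.1) (fun x => hT x.1 x.2) hcov
    (fun x => α x.1 + β x.1 * ores ((hT x.1 x.2).trans hW) a) (by
      intro x y
      apply hinj' (T x.1 ⊓ T y.1) (inf_le_left.trans ((hT x.1 x.2).trans hW))
      dsimp only
      have h1 := congr(res N (inf_le_left : T x.1 ⊓ T y.1 ≤ T x.1) $(key x))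
      have h2 := congr(res N (inf_le_right : T x.1 ⊓ T y.1 ≤ T y.1) $(key y))
      rw [res_smul, res_res, res_res] at h1 h2
      rw [← h1, ← h2])
  refine ⟨b, res_ext N (fun x : W => T x.1) (fun x => hT x.1 x.2) hcov fun x => ?_⟩
  rw [res_smul, hb, res_res, key]

/-- The submodule `N + O t` of the invertible module `M` is invertible. -/
theorem exists_add (hval : ∀ x : X, ValuationRing (X.presheaf.stalk x)) {M N : X.Modules}
    (hM : PicF.IsInvertible M) (hN : PicF.IsInvertible N) (ι : N ⟶ M) [Mono ι] (t : Γ(M, ⊤)) :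
    ∃ (N' : X.Modules) (_ : PicF.IsInvertible N') (ι' : N' ⟶ M) (_ : Mono ι') (i : N ⟶ N') (t' : Γ(N', ⊤)),
      i ≫ ι' = ι ∧ ι'.app ⊤ t' = t ∧
      ∀ (U : X.Opens) (n : Γ(N', U)) (x : X), x ∈ U → ∃ (W : X.Opens) (h : W ≤ U), x ∈ W ∧
        ∃ (m : Γ(N, W)) (a : Γ(X, W)), res N' h n = i.app W m + a • res N' le_top t' := by
  let φ : N ⊞ Coh.structureModule X ⟶ M := biprod.desc ι (homOf t)
  let N' := Abelian.image φ
  let p : N ⊞ Coh.structureModule X ⟶ N' := Abelian.factorThruImage φ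
  let ι' : N' ⟶ M := Abelian.image.ι φ
  have hfac : p ≫ ι' = φ := Abelian.image.fac φ
  let i : N ⟶ N' := biprod.inl ≫ p
  let t' : Γ(N', ⊤) := sec (biprod.inr ≫ p) ⊤
  have hi : i ≫ ι' = ι := by
    change (biprod.inl ≫ p) ≫ ι' = ι
    rw [Category.assoc, hfac, biprod.inl_desc]
  have ht' : ι'.app ⊤ t' = t := by
    change sec ((biprod.inr ≫ p) ≫ ι') ⊤ = t
    rw [Category.assoc, hfac, biprod.inr_desc, sec_homOf, res_refl]
  have hloc : ∀ (U : X.Opens) (n : Γ(N', U)) (x : X), x ∈ U → ∃ (W : X.Opens) (h : W ≤ U), x ∈ W ∧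
      ∃ (m : Γ(N, W)) (a : Γ(X, W)), res N' h n = i.app W m + a • res N' le_top t' := by
    intro U n x hx
    obtain ⟨W, hW, w, hxW, hw⟩ := Groth.Agent.CohqB.QCSheaf.exists_local_lift p n x hx
    refine ⟨W, hW, hxW, (biprod.fst : N ⊞ Coh.structureModule X ⟶ _).app W w,
      ofFun.symm ((biprod.snd : N ⊞ Coh.structureModule X ⟶ _).app W w), ?_⟩
    have h : p = biprod.fst ≫ i + biprod.snd ≫ (biprod.inr ≫ p) := by
      change p = biprod.fst ≫ (biprod.inl ≫ p) + biprod.snd ≫ (biprod.inr ≫ p)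
      rw [← Category.assoc, ← Category.assoc, ← Preadditive.add_comp, biprod.total, Category.id_comp]
    refine hw.symm.trans ?_
    refine (congr(($h).app W w)).trans ?_
    rw [res_sec, ← app_ofFun, AddEquiv.apply_symm_apply]
    rfl
  have hN' : Groth.Agent.CurvesB.RankOne.LocEmb N' := (locEmb_of_isInvertible hM).of_mono ι'
  refine ⟨N', (isInvertible_iff N').2 fun x => ?_, ι', inferInstance, i, t', hi, ht', hloc⟩
  obtain ⟨U₁, e, hx₁, he⟩ := (isInvertible_iff N).1 hN x
  obtain ⟨U₂, f, hx₂, hf⟩ := (isInvertible_iff M).1 hM x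
  have he' := he.res (inf_le_left : U₁ ⊓ U₂ ≤ U₁)
  have hf' := hf.res (inf_le_right : U₁ ⊓ U₂ ≤ U₂)
  obtain ⟨g, hg⟩ := hf'.exists_eq (ι.app (U₁ ⊓ U₂) (res N inf_le_left e))
  obtain ⟨h, hh⟩ := hf'.exists_eq (res M le_top t)
  obtain ⟨W, hW, hxW, hdvd⟩ := exists_mul_eq (hval x) (show x ∈ U₁ ⊓ U₂ from ⟨hx₁, hx₂⟩) g h
  have heW := he'.res hW
  rw [res_res] at heW
  set eW := res N (hW.trans inf_le_left) e with heWdef
  have hιe : ι.app W eW = ores hW g • res M (hW.trans inf_le_right) f := by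
    have h1 := congr(res M hW $hg)
    rw [res_smul, res_res, ← app_res, res_res] at h1
    exact h1
  have hιt : res M (le_top (a := W)) t = ores hW h • res M (hW.trans inf_le_right) f := by
    have h1 := congr(res M hW $hh)
    rw [res_smul, res_res, res_res] at h1
    exact h1
  have hinj := Groth.Agent.CohqB.QC4.app_injective_of_mono ι' W
  have hie : ι'.app W (i.app W eW) = ι.app W eW := congr(($hi).app W eW)
  have hit : ι'.app W (res N' le_top t') = res M le_top t := by rw [app_res, ht']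
  have he0 : i.app W eW ≠ 0 := by
    intro h0
    have h1 : eW = 0 := by
      apply Groth.Agent.CohqB.QC4.app_injective_of_mono ι W
      rw [map_zero, ← hie, h0, map_zero]
    have h2 : (1 : Γ(X, W)) = 0 := by
      apply (heW.bijective).injective
      change (1 : Γ(X, W)) • eW = (0 : Γ(X, W)) • eW
      rw [h1, smul_zero, smul_zero]
    have : Nonempty W := ⟨⟨x, hxW⟩⟩
    exact one_ne_zero h2
  rcases hdvd with ⟨a, ha⟩ | ⟨a, ha⟩
  · -- `t = a e`
    refine ⟨W, i.app W eW, hxW, isGen_local hN' (t' := res N' le_top t') he0 ?_ a (hinj ?_)⟩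
    · intro U hU n y hy
      obtain ⟨W', hW', hyW', m, b, hmb⟩ := hloc U n y hy
      obtain ⟨c, hc⟩ := (heW.res (hW'.trans hU)).exists_eq m
      refine ⟨W', hW', hyW', c, b, ?_⟩
      rw [hmb, hc, Scheme.Modules.Hom.app_smul, app_res, res_res]
    · rw [hit, hιt, Scheme.Modules.Hom.app_smul, hie, hιe, ha, mul_smul]
  · -- `e = a t`
    have hea : i.app W eW = a • res N' le_top t' := hinj (by
      rw [hie, Scheme.Modules.Hom.app_smul, hit, hιt, hιe, ha, mul_smul])
    have ht0 : res N' (le_top (a := W)) t' ≠ 0 := fun h0 => he0 (by rw [hea, h0, smul_zero])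
    refine ⟨W, res N' le_top t', hxW, isGen_local hN' (t' := i.app W eW) ht0 ?_ a hea⟩
    intro U hU n y hy
    obtain ⟨W', hW', hyW', m, b, hmb⟩ := hloc U n y hy
    obtain ⟨c, hc⟩ := (heW.res (hW'.trans hU)).exists_eq m
    refine ⟨W', hW', hyW', b, c, ?_⟩
    rw [hmb, hc, Scheme.Modules.Hom.app_smul, app_res, res_res, add_comm]

end K328.AddSec
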