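import Mathlib.Algebra.Polynomial.Taylor
import Mathlib.Data.Nat.Choose.Lucas
import Mathlib.Data.Matrix.Mul
import Mathlib.LinearAlgebra.Matrix.Determinant.Basic
import Mathlib.LinearAlgebra.Matrix.Block

/-! Cartier–Manin matrices under translation of the variable. -/

set_option autoImplicit false
universe u

namespace K328.CartierManin

open Polynomial Finset

variable {k : Type u} [Field k]

/-- Taylor coefficients as a sum over a range. -/
theorem coeff_comp_X_add_C (h : k[X]) (α : k) (N m : ℕ) (hN : h.natDegree < N) :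
    (h.comp (X + C α)).coeff m =
      ∑ l ∈ range N, h.coeff l * ((l.choose m : ℕ) : k) * α ^ (l - m) := by
  have h1 : h.comp (X + C α) = taylor α h := rfl
  rw [h1, taylor_coeff, hasseDeriv_apply, Polynomial.sum_over_range' _ _ N hN]
  · rw [eval_finsetSum]
    refine Finset.sum_congr rfl fun l _ => ?_
    rw [eval_monomial]; ring
  · intro n; simp

theorem sum_range_mul {M : Type*} [AddCommMonoid M] (F : ℕ → M) (a b : ℕ) :
    ∑ l ∈ range (a * b), F l = ∑ I ∈ range a, ∑ J ∈ range b, F (I * b + J) := by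
  induction a with
  | zero => simp
  | succ a ih =>
    rw [Nat.succ_mul, Finset.sum_range_add, ih, Finset.sum_range_succ]

/-- Lucas for our indices. -/
theorem lucas (p : ℕ) [Fact p.Prime] [CharP k p] (I i a b : ℕ) (ha : a < p) (hb : b < p) :
    (((I * p + a).choose (i * p + b) : ℕ) : k) = ((I.choose i : ℕ) : k) * ((a.choose b : ℕ) : k) := by
  have hp : 0 < p := (Fact.out : p.Prime).pos
  have h := Choose.choose_modEq_choose_mod_mul_choose_div_nat (p := p) (n := I * p + a) (k := i * p + b)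
  have e1 : (I * p + a) % p = a := by rw [mul_comm, Nat.mul_add_mod, Nat.mod_eq_of_lt ha]
  have e2 : (i * p + b) % p = b := by rw [mul_comm, Nat.mul_add_mod, Nat.mod_eq_of_lt hb]
  have e3 : (I * p + a) / p = I := by
    rw [mul_comm, Nat.mul_add_div hp, Nat.div_eq_of_lt ha, add_zero]
  have e4 : (i * p + b) / p = i := by
    rw [mul_comm, Nat.mul_add_div hp, Nat.div_eq_of_lt hb, add_zero]
  rw [e1, e2, e3, e4] at h
  have h' := (CharP.natCast_eq_natCast k p).2 h
  rw [h', Nat.cast_mul, mul_comm]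

theorem main (p : ℕ) [Fact p.Prime] [CharP k p]
    (g : ℕ) (hg : g ≤ p) (h : k[X]) (hh : h.natDegree + (g + 1) ≤ (g + 1) * p) (α : k) :
    (Matrix.of fun i j : Fin g =>
        (h.comp (X + C α)).coeff (((i : ℕ) + 1) * p - ((j : ℕ) + 1))) =
      (Matrix.of fun i I : Fin g => (((I : ℕ).choose (i : ℕ) : ℕ) : k) * α ^ (((I : ℕ) - (i : ℕ)) * p)) *
        (Matrix.of fun i j : Fin g => h.coeff (((i : ℕ) + 1) * p - ((j : ℕ) + 1))) *
        (Matrix.of fun J j : Fin g => (((p - ((J : ℕ) + 1)).choose (p - ((j : ℕ) + 1)) : ℕ) : k) * α ^ ((j : ℕ) - (J : ℕ))) := by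
  have hp : 0 < p := (Fact.out : p.Prime).pos
  ext i j
  simp only [Matrix.mul_apply, Matrix.of_apply]
  have hi := i.2
  have hj := j.2
  -- the sum over `Fin` as sums over `range`
  have key : ∀ I J : ℕ, J < p → (p - 1 - J) < p := fun I J hJ => by omega
  have hm : ((i : ℕ) + 1) * p - ((j : ℕ) + 1) = (i : ℕ) * p + (p - 1 - j) := by
    rw [Nat.succ_mul]; omega
  rw [hm, coeff_comp_X_add_C h α ((g + 1) * p) _ (by omega), sum_range_mul]
  have step : ∀ I : ℕ, ∑ J ∈ range p, (fun l => h.coeff l * ((l.choose ((i : ℕ) * p + (p - 1 - j)) : ℕ) : k) *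
      α ^ (l - ((i : ℕ) * p + (p - 1 - j)))) (I * p + J) =
      ∑ J ∈ range p, h.coeff (I * p + (p - 1 - J)) *
        (((I.choose (i : ℕ) : ℕ) : k) * (((p - 1 - J).choose (p - 1 - j) : ℕ) : k)) *
        α ^ ((I - i) * p + (j - J)) := by
    intro I
    rw [← Finset.sum_range_reflect (fun J => (fun l => h.coeff l * ((l.choose ((i : ℕ) * p + (p - 1 - j)) : ℕ) : k) *
      α ^ (l - ((i : ℕ) * p + (p - 1 - j)))) (I * p + J)) p]
    refine Finset.sum_congr rfl fun J hJ => ?_
    have hJ' : J < p := Finset.mem_range.1 hJ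
    simp only
    rw [lucas (k := k) p I i (p - 1 - J) (p - 1 - j) (by omega) (by omega)]
    by_cases hI : (i : ℕ) ≤ I
    · by_cases hJj : J ≤ (j : ℕ)
      · congr 2
        obtain ⟨t, rfl⟩ := Nat.exists_eq_add_of_le hI
        rw [Nat.add_sub_cancel_left, Nat.add_mul]
        omega
      · rw [Nat.choose_eq_zero_of_lt (show p - 1 - J < p - 1 - j by omega)]
        simp
    · rw [Nat.choose_eq_zero_of_lt (show I < i by omega)]
      simp
  rw [Finset.sum_congr rfl fun I _ => step I]
  -- drop `I = g`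
  have hlast : ∑ J ∈ range p, h.coeff (g * p + (p - 1 - J)) *
        (((g.choose (i : ℕ) : ℕ) : k) * (((p - 1 - J).choose (p - 1 - j) : ℕ) : k)) *
        α ^ ((g - i) * p + (j - J)) = 0 := by
    refine Finset.sum_eq_zero fun J hJ => ?_
    have hJ' : J < p := Finset.mem_range.1 hJ
    by_cases hJj : J ≤ (j : ℕ)
    · have : h.coeff (g * p + (p - 1 - J)) = 0 := by
        apply Polynomial.coeff_eq_zero_of_natDegree_lt
        rw [Nat.succ_mul] at hh
        omega
      rw [this]; simp
    · rw [Nat.choose_eq_zero_of_lt (show p - 1 - J < p - 1 - j by omega)]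
      simp
  rw [Finset.sum_range_succ, hlast, add_zero]
  -- restrict `J`
  have hres : ∀ I : ℕ, ∑ J ∈ range p, h.coeff (I * p + (p - 1 - J)) *
        (((I.choose (i : ℕ) : ℕ) : k) * (((p - 1 - J).choose (p - 1 - j) : ℕ) : k)) *
        α ^ ((I - i) * p + (j - J)) =
      ∑ J ∈ range g, h.coeff (I * p + (p - 1 - J)) *
        (((I.choose (i : ℕ) : ℕ) : k) * (((p - 1 - J).choose (p - 1 - j) : ℕ) : k)) *
        α ^ ((I - i) * p + (j - J)) := by
    intro I
    symm
    apply Finset.sum_subset (Finset.range_subset_range.2 hg)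
    intro J hJ hJ'
    have h1 : J < p := Finset.mem_range.1 hJ
    have h2 : ¬ J < g := fun h => hJ' (Finset.mem_range.2 h)
    rw [Nat.choose_eq_zero_of_lt (show p - 1 - J < p - 1 - j by omega)]
    simp
  rw [Finset.sum_congr rfl fun I _ => hres I, Finset.sum_comm, Finset.sum_range]
  refine Finset.sum_congr rfl fun J _ => ?_
  rw [Finset.sum_range, Finset.sum_mul]
  refine Finset.sum_congr rfl fun I _ => ?_
  have hJ := J.2
  have e1 : ((I : ℕ) + 1) * p - ((J : ℕ) + 1) = (I : ℕ) * p + (p - 1 - J) := by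
    rw [Nat.succ_mul]; omega
  have e2 : p - ((J : ℕ) + 1) = p - 1 - J := by omega
  have e3 : p - ((j : ℕ) + 1) = p - 1 - j := by omega
  rw [e1, e2, e3, pow_add]
  ring

end K328.CartierManin
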