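import Groth.Agent.Old.H24.MulHom
import Groth.Agent.CurvesB.CurveRR
import Groth.Agent.CurvesB.InvEmb

/-!
# Multiplication maps `H^0(L) × H^i(F) → H^i(F ⊗ L)` on an integral proper curve

* `mulL k F L i : H^0(L) →ₗ[k] H^i(F) →ₗ[k] H^i(F ⊗ L)`; `mulL_zero_apply`: on `H^0` it is `tmul`;
* `tmul_eq_zero`, `tmul_comm'`; `mulL_injective` (`i = 0`), `mulL_surjective` (`i > 0`) for a nonzero section.
-/

set_option autoImplicit false
universe u
open CategoryTheory CategoryTheory.Limits AlgebraicGeometry Opposite TopologicalSpace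
open Groth.Agent.Fdesc.LocGen Groth.Agent.CurvesB.HZero Groth.Agent.Old.H24.MulHom
open Groth.Agent.VarietyA.EulerLES Groth.Agent.CurvesB.InvEmb

namespace K328.Mult

variable {X : Scheme.{u}}

theorem mulHom_add (F : X.Modules) {L : X.Modules} (m m' : Γ(L, ⊤)) :
    mulHom F (m + m') = mulHom F m + mulHom F m' := by
  apply Scheme.Modules.hom_ext
  intro U
  ext t
  change tmul t (res L le_top (m + m')) = tmul t (res L le_top m) + tmul t (res L le_top m')
  rw [map_add, tmul_add]

theorem toAb_mulHom_smul (F : X.Modules) {L : X.Modules} (r : Coh.Γtop X) (m : Γ(L, ⊤)) :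
    (toAbF X).map (mulHom F ((show Γ(X, ⊤) from r) • m)) =
      (toAbF X).map (mulHom F m) ≫ Coh.smulAb _ r := by
  ext U t
  change tmul (show Γ(F, U.unop) from t) (res L (le_top (a := U.unop)) ((show Γ(X, ⊤) from r) • m)) =
    (ores (le_top (a := U.unop)) (show Γ(X, ⊤) from r)) •
      tmul (show Γ(F, U.unop) from t) (res L (le_top (a := U.unop)) m)
  rw [res_smul, tmul_smul]

section Over

variable (k : Type u) [Field k] [X.Over (Spec (CommRingCat.of k))]

/-- The multiplication map `H^0(L) × H^i(F) → H^i(F ⊗ L)`. -/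
noncomputable def mulL (F L : X.Modules) (i : ℕ) :
    Coh.HH X L 0 →ₗ[k] Coh.HH X F i →ₗ[k] Coh.HH X (CohB1.tensorMod F L) i where
  toFun m := mapA k (mulHom F (equivAdd L m)) i
  map_add' m m' := by
    rw [map_add, mulHom_add]
    ext x
    exact congr($(mapΓ_add (mulHom F (equivAdd L m)) (mulHom F (equivAdd L m')) i) x)
  map_smul' c m := by
    ext x
    rw [equivAdd_smul_over]
    change Sheaf.H.map ((toAbF X).map (mulHom F (gl k X c • equivAdd L m))) i x =
      Sheaf.H.map (Coh.smulAb _ (gl k X c)) i (Sheaf.H.map ((toAbF X).map (mulHom F (equivAdd L m))) i x)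
    have h := toAb_mulHom_smul F (gl k X c : Coh.Γtop X) (equivAdd L m)
    refine (congrArg (fun g => Sheaf.H.map g i x) h).trans ?_
    rw [Sheaf.H.map_comp_apply]

theorem mulL_apply (F L : X.Modules) (i : ℕ) (m : Coh.HH X L 0) (x : Coh.HH X F i) :
    mulL k F L i m x = mapA k (mulHom F (equivAdd L m)) i x := rfl

theorem mulL_zero_apply (F L : X.Modules) (m : Coh.HH X L 0) (x : Coh.HH X F 0) :
    equivAdd (CohB1.tensorMod F L) (mulL k F L 0 m x) = tmul (equivAdd F x) (equivAdd L m) := by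
  refine (equivAdd_map (mulHom F (equivAdd L m)) x).trans ?_
  rw [mulHom_app, res_refl]

end Over

/-- The two tensor products of sections of an invertible module agree. -/
theorem tmul_comm' {L : X.Modules} (hL : PicF.IsInvertible L) {U : X.Opens} (m n : Γ(L, U)) :
    tmul m n = tmul n m := by
  choose V e hV he using (isInvertible_iff L).1 hL
  refine res_ext _ (fun x : U => V x.1 ⊓ U) (fun _ => inf_le_right)
    (fun x hx => Opens.mem_iSup.mpr ⟨⟨x, hx⟩, hV x, hx⟩) fun x => ?_
  rw [res_tmul, res_tmul]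
  have he' := (he x.1).res (inf_le_left : V x.1 ⊓ U ≤ V x.1)
  obtain ⟨f, hf⟩ := he'.exists_eq (res L inf_le_right m)
  obtain ⟨g, hg⟩ := he'.exists_eq (res L inf_le_right n)
  rw [hf, hg, tmul_smul, smul_tmul, tmul_smul, smul_tmul, smul_smul, smul_smul, mul_comm]

section Integral

variable [IsIntegral X]

theorem tmul_eq_zero {F L : X.Modules} (hF : Groth.Agent.CurvesB.RankOne.LocEmb F) (hL : PicF.IsInvertible L)
    {U : X.Opens} {a : Γ(F, U)} {m : Γ(L, U)} (h : tmul a m = 0) : a = 0 ∨ m = 0 := by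
  by_cases hm : m = 0
  · exact Or.inr hm
  left
  have hU : (U : Set X).Nonempty := by
    rw [Set.nonempty_iff_ne_empty]
    intro h0
    apply hm
    refine Groth.Agent.Ega2.Tens.eq_of_locally_eq L _ 0 fun x hx => ?_
    exact absurd hx (by rw [← SetLike.mem_coe, h0]; exact Set.notMem_empty x)
  obtain ⟨x, hx⟩ := hU
  obtain ⟨V, e, hV, he⟩ := (isInvertible_iff L).1 hL x
  have hW : ((V ⊓ U : X.Opens) : Set X).Nonempty := ⟨x, hV, hx⟩
  have he' := he.res (inf_le_left : V ⊓ U ≤ V)
  obtain ⟨f, hf⟩ := he'.exists_eq (res L inf_le_right m)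
  have h1 := congr(res (CohB1.tensorMod F L) (inf_le_right : V ⊓ U ≤ U) $h)
  rw [res_tmul, hf, tmul_smul, ← smul_tmul, map_zero] at h1
  have h2 := Groth.Agent.Ega2.TensGen.tmul_gen_eq_zero he' h1
  by_cases hf0 : f = 0
  · exfalso
    apply hm
    refine (locEmb_of_isInvertible hL).eq_zero (inf_le_right : V ⊓ U ≤ U) hW m ?_
    have h3 : res L (inf_le_right : V ⊓ U ≤ U) m = 0 := by rw [hf, hf0, zero_smul]
    exact h3
  · have h3 := hF.smul_eq_zero f _ h2 hf0
    exact hF.eq_zero (inf_le_right : V ⊓ U ≤ U) hW a h3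

theorem mulHom_ne_zero {F L : X.Modules} (hF : Groth.Agent.CurvesB.RankOne.LocEmb F) (hF0 : ¬ IsZero F)
    (hL : PicF.IsInvertible L) {m : Γ(L, ⊤)} (hm : m ≠ 0) : mulHom F m ≠ 0 := by
  intro h
  apply hF0
  rw [IsZero.iff_id_eq_zero]
  apply Scheme.Modules.hom_ext
  intro U
  ext t
  have h1 : (mulHom F m).app U t = 0 := by rw [h]; rfl
  rw [mulHom_app] at h1
  change t = 0
  by_cases hU : (U : Set X).Nonempty
  · rcases tmul_eq_zero hF hL h1 with h2 | h2
    · exact h2
    · exact absurd ((locEmb_of_isInvertible hL).eq_zero (le_top (a := U)) hU m h2) hm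
  · refine Groth.Agent.Ega2.Tens.eq_of_locally_eq F _ 0 fun x hx => ?_
    exact absurd ⟨x, hx⟩ hU

theorem mono_mulHom {F L : X.Modules} (hF : Groth.Agent.CurvesB.RankOne.LocEmb F)
    (hL : PicF.IsInvertible L) {m : Γ(L, ⊤)} (hm : m ≠ 0) : Mono (mulHom F m) := by
  apply (Scheme.Modules.toPresheaf X).mono_of_mono_map
  rw [NatTrans.mono_iff_mono_app]
  intro U
  rw [AddCommGrpCat.mono_iff_injective, injective_iff_map_eq_zero]
  intro t ht
  have h1 : (mulHom F m).app U.unop t = 0 := ht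
  rw [mulHom_app] at h1
  by_cases hU : (U.unop : Set X).Nonempty
  · rcases tmul_eq_zero hF hL h1 with h2 | h2
    · exact h2
    · exact absurd ((locEmb_of_isInvertible hL).eq_zero (le_top (a := U.unop)) hU m h2) hm
  · refine Groth.Agent.Ega2.Tens.eq_of_locally_eq F (U := U.unop) _ 0 fun x hx => ?_
    exact absurd ⟨x, hx⟩ hU

variable (k : Type u) [Field k] [X.Over (Spec (CommRingCat.of k))]

theorem mulL_injective {F L : X.Modules} (hF : Groth.Agent.CurvesB.RankOne.LocEmb F) (hL : PicF.IsInvertible L)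
    {m : Coh.HH X L 0} (hm : m ≠ 0) : Function.Injective (mulL k F L 0 m) := by
  have hm' : equivAdd L m ≠ 0 := (map_ne_zero_iff _ (equivAdd L).injective).2 hm
  rw [injective_iff_map_eq_zero]
  intro x hx
  have h1 := mulL_zero_apply k F L m x
  rw [hx, map_zero] at h1
  rcases tmul_eq_zero hF hL h1.symm with h2 | h2
  · exact (map_eq_zero_iff _ (equivAdd F).injective).1 h2
  · exact absurd h2 hm'

theorem mulL_surjective [IsNoetherian X] (hd : topologicalKrullDim X ≤ 1) {F L : X.Modules}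
    (hF : Groth.Agent.CurvesB.RankOne.LocEmb F) (hF0 : ¬ IsZero F) (hL : PicF.IsInvertible L)
    {m : Coh.HH X L 0} (hm : m ≠ 0) (i : ℕ) : Function.Surjective (mulL k F L (i + 1) m) := by
  have hm' : equivAdd L m ≠ 0 := (map_ne_zero_iff _ (equivAdd L).injective).2 hm
  have := mono_mulHom hF hL hm'
  exact Groth.Agent.CurvesB.CurveRR.hmap_surjective hd (locEmb_tensor hF hL) (mulHom F (equivAdd L m))
    (mulHom_ne_zero hF hF0 hL hm') i

end Integral

end K328.Mult
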