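import Groth.Agent.CurvesB.InvEmb
import Groth.Agent.Old.H24.MulHom
import Mathlib.RingTheory.Valuation.ValuationRing

/-!
# The invertible module generated by two sections of an invertible module

`X` integral with all local rings valuation rings (e.g. a regular curve), `M` invertible, `s, t` nonzero global
sections of `M`: there are an invertible module `N`, a monomorphism `N ⟶ M` and sections `s', t'` of `N`
without common zero mapping to `s, t`.
-/

set_option autoImplicit false
universe u
open CategoryTheory CategoryTheory.Limits AlgebraicGeometry Opposite TopologicalSpace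
open Groth.Agent.Fdesc.LocGen Groth.Agent.Old.H24.MulHom
open Groth.Agent.CurvesB.InvEmb

namespace K328.SubGen

variable {X : Scheme.{u}}

theorem germ_res' {U V : X.Opens} (h : V ≤ U) (x : X) (hx : x ∈ V) (a : Γ(X, U)) :
    X.presheaf.germ V x hx (ores h a) = X.presheaf.germ U x (h hx) a :=
  X.presheaf.germ_res_apply (homOfLE h) x hx a

/-- Near a point whose local ring is a valuation ring one of two functions divides the other. -/
theorem exists_mul_eq {x : X} [IsIntegral X] (hval : ValuationRing (X.presheaf.stalk x)) {U : X.Opens} (hx : x ∈ U)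
    (f g : Γ(X, U)) : ∃ (V : X.Opens) (h : V ≤ U), x ∈ V ∧
      ((∃ a : Γ(X, V), ores h g = a * ores h f) ∨ (∃ a : Γ(X, V), ores h f = a * ores h g)) := by
  have key : ∀ f g : Γ(X, U), X.presheaf.germ U x hx f ∣ X.presheaf.germ U x hx g →
      ∃ (V : X.Opens) (h : V ≤ U), x ∈ V ∧ ∃ a : Γ(X, V), ores h g = a * ores h f := by
    rintro f g ⟨c, hc⟩
    obtain ⟨V, hxV, a, rfl⟩ := X.presheaf.exists_germ_eq c
    have h1 : X.presheaf.germ (U ⊓ V) x ⟨hx, hxV⟩ (ores inf_le_left g) =
        X.presheaf.germ (U ⊓ V) x ⟨hx, hxV⟩ (ores inf_le_right a * ores inf_le_left f) := by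
      rw [map_mul, germ_res', germ_res', germ_res', hc, mul_comm]
    obtain ⟨W, hxW, i, j, hij⟩ := X.presheaf.germ_eq x _ _ _ _ h1
    refine ⟨W, (leOfHom i).trans inf_le_left, hxW, ores ((leOfHom i).trans inf_le_right) a, ?_⟩
    have h2 : ores (leOfHom i) (ores (inf_le_left : U ⊓ V ≤ U) g) =
        ores (leOfHom i) (ores inf_le_right a * ores inf_le_left f) := hij
    rw [map_mul, ores_ores, ores_ores, ores_ores] at h2
    exact h2
  rcases ValuationRing.dvd_total (X.presheaf.germ U x hx f) (X.presheaf.germ U x hx g) with h | h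
  · obtain ⟨V, hV, hxV, a⟩ := key f g h
    exact ⟨V, hV, hxV, Or.inl a⟩
  · obtain ⟨V, hV, hxV, a⟩ := key g f h
    exact ⟨V, hV, hxV, Or.inr a⟩

/-- Near a point whose local ring is a valuation ring, one of two sections of an invertible module is a
multiple of the other. -/
theorem exists_smul_eq [IsIntegral X] {x : X} (hval : ValuationRing (X.presheaf.stalk x)) {M : X.Modules}
    (hM : PicF.IsInvertible M) (s t : Γ(M, ⊤)) : ∃ V : X.Opens, x ∈ V ∧
      ((∃ a : Γ(X, V), res M (le_top (a := V)) t = a • res M (le_top (a := V)) s) ∨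
        (∃ a : Γ(X, V), res M (le_top (a := V)) s = a • res M (le_top (a := V)) t)) := by
  obtain ⟨U, e, hxU, he⟩ := (isInvertible_iff M).1 hM x
  obtain ⟨f, hf⟩ := he.exists_eq (res M le_top s)
  obtain ⟨g, hg⟩ := he.exists_eq (res M le_top t)
  obtain ⟨V, hV, hxV, h⟩ := exists_mul_eq hval hxU f g
  have hs : res M (le_top (a := V)) s = ores hV f • res M hV e := by
    rw [← res_smul, ← hf, res_res]
  have ht : res M (le_top (a := V)) t = ores hV g • res M hV e := by
    rw [← res_smul, ← hg, res_res]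
  refine ⟨V, hxV, ?_⟩
  rcases h with ⟨a, ha⟩ | ⟨a, ha⟩
  · exact Or.inl ⟨a, by rw [hs, ht, ha, mul_smul]⟩
  · exact Or.inr ⟨a, by rw [hs, ht, ha, mul_smul]⟩

section

variable [IsIntegral X] {M N : X.Modules} (hM : PicF.IsInvertible M) (ι : N ⟶ M) [Mono ι]
  (p : Coh.structureModule X ⊞ Coh.structureModule X ⟶ N) [Epi p]

theorem app_eq_add (U : X.Opens) (w : Γ(Coh.structureModule X ⊞ Coh.structureModule X, U)) :
    ∃ α β : Γ(X, U), p.app U w = α • sec (biprod.inl ≫ p) U + β • sec (biprod.inr ≫ p) U := by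
  refine ⟨ofFun.symm ((biprod.fst : Coh.structureModule X ⊞ Coh.structureModule X ⟶ _).app U w),
    ofFun.symm ((biprod.snd : Coh.structureModule X ⊞ Coh.structureModule X ⟶ _).app U w), ?_⟩
  rw [← app_ofFun, ← app_ofFun, AddEquiv.apply_symm_apply, AddEquiv.apply_symm_apply]
  have h : p = biprod.fst ≫ (biprod.inl ≫ p) + biprod.snd ≫ (biprod.inr ≫ p) := by
    rw [← Category.assoc, ← Category.assoc, ← Preadditive.add_comp, biprod.total, Category.id_comp]
  exact congr(($h).app U w)

include hM ι in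
theorem isGen_of_smul_eq {V : X.Opens} {s' t' : Γ(N, ⊤)} (hs : s' ≠ 0)
    (hloc : ∀ (U : X.Opens) (n : Γ(N, U)) (x : X), x ∈ U → ∃ (W : X.Opens) (h : W ≤ U), x ∈ W ∧
      ∃ α β : Γ(X, W), res N h n = α • res N le_top s' + β • res N le_top t')
    (a : Γ(X, V)) (ha : res N le_top t' = a • res N (le_top (a := V)) s') :
    IsGen (res N (le_top (a := V)) s') := by
  have hN : Groth.Agent.CurvesB.RankOne.LocEmb N := (locEmb_of_isInvertible hM).of_mono ι
  intro W hW
  have hinj : ∀ (W : X.Opens) (b : Γ(X, W)), b • res N (le_top (a := W)) s' = 0 → b = 0 := by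
    intro W b hb
    by_contra hb0
    have h1 := hN.smul_eq_zero b _ hb hb0
    have hW : (W : Set X).Nonempty := by
      rw [Set.nonempty_iff_ne_empty]
      intro h0
      apply hb0
      have : X.basicOpen b = ⊥ := by
        rw [eq_bot_iff]
        intro x hx
        have := X.basicOpen_le b hx
        rw [← SetLike.mem_coe, h0] at this
        exact this
      exact (basicOpen_eq_bot_iff b).1 this
    exact hs (hN.eq_zero (le_top (a := W)) hW s' h1)
  rw [res_res]
  have hinj' : ∀ (W : X.Opens), Function.Injective (fun b : Γ(X, W) => b • res N (le_top (a := W)) s') := by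
    intro W b b' hbb
    have : (b - b') • res N (le_top (a := W)) s' = 0 := by
      rw [sub_smul, sub_eq_zero]; exact hbb
    exact sub_eq_zero.1 (hinj W _ this)
  refine ⟨hinj' W, fun n => ?_⟩
  choose! T hT hxT α β hαβ using fun x (hx : x ∈ W) => hloc W n x hx
  have hcov : W ≤ ⨆ x : W, T x.1 := fun x hx => Opens.mem_iSup.mpr ⟨⟨x, hx⟩, hxT x hx⟩
  have key : ∀ x : W, res N (hT x.1 x.2) n =
      (α x.1 + β x.1 * ores ((hT x.1 x.2).trans hW) a) • res N (le_top (a := T x.1)) s' := by
    intro x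
    rw [hαβ x.1 x.2, add_smul, mul_smul]
    congr 2
    have := congr(res N ((hT x.1 x.2).trans hW) $ha)
    rw [res_smul, res_res, res_res] at this
    exact this
  obtain ⟨b, hb⟩ := ores_glue (X := X) (fun x : W => T x.1) (fun x => hT x.1 x.2) hcov
    (fun x => α x.1 + β x.1 * ores ((hT x.1 x.2).trans hW) a) (by
      intro x y
      apply hinj' (T x.1 ⊓ T y.1)
      dsimp only
      have h1 := congr(res N (inf_le_left : T x.1 ⊓ T y.1 ≤ T x.1) $(key x))
      have h2 := congr(res N (inf_le_right : T x.1 ⊓ T y.1 ≤ T y.1) $(key y))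
      rw [res_smul, res_res, res_res] at h1 h2
      rw [← h1, ← h2])
  refine ⟨b, res_ext N (fun x : W => T x.1) (fun x => hT x.1 x.2) hcov fun x => ?_⟩
  rw [res_smul, hb, res_res, key]

end

/-- The invertible module generated by two nonzero sections of an invertible module. -/
theorem exists_sub [IsIntegral X] (hval : ∀ x : X, ValuationRing (X.presheaf.stalk x)) {M : X.Modules}
    (hM : PicF.IsInvertible M) (s t : Γ(M, ⊤)) (hs : s ≠ 0) (ht : t ≠ 0) :
    ∃ (N : X.Modules) (_ : PicF.IsInvertible N) (ι : N ⟶ M) (_ : Mono ι) (s' t' : Γ(N, ⊤)),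
      ι.app ⊤ s' = s ∧ ι.app ⊤ t' = t ∧ Covers s' t' := by
  let φ : Coh.structureModule X ⊞ Coh.structureModule X ⟶ M := biprod.desc (homOf s) (homOf t)
  let N := Abelian.image φ
  let p : Coh.structureModule X ⊞ Coh.structureModule X ⟶ N := Abelian.factorThruImage φ
  let ι : N ⟶ M := Abelian.image.ι φ
  have hfac : p ≫ ι = φ := Abelian.image.fac φ
  let s' : Γ(N, ⊤) := sec (biprod.inl ≫ p) ⊤
  let t' : Γ(N, ⊤) := sec (biprod.inr ≫ p) ⊤
  have hs' : ι.app ⊤ s' = s := by
    change sec ((biprod.inl ≫ p) ≫ ι) ⊤ = s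
    rw [Category.assoc, hfac, biprod.inl_desc, sec_homOf, res_refl]
  have ht' : ι.app ⊤ t' = t := by
    change sec ((biprod.inr ≫ p) ≫ ι) ⊤ = t
    rw [Category.assoc, hfac, biprod.inr_desc, sec_homOf, res_refl]
  have hs0 : s' ≠ 0 := fun h => hs (by rw [← hs', h, map_zero])
  have ht0 : t' ≠ 0 := fun h => ht (by rw [← ht', h, map_zero])
  have hloc : ∀ (U : X.Opens) (n : Γ(N, U)) (x : X), x ∈ U → ∃ (W : X.Opens) (h : W ≤ U), x ∈ W ∧
      ∃ α β : Γ(X, W), res N h n = α • res N le_top s' + β • res N le_top t' := by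
    intro U n x hx
    obtain ⟨W, hW, w, hxW, hw⟩ := Groth.Agent.CohqB.QCSheaf.exists_local_lift p n x hx
    obtain ⟨α, β, hαβ⟩ := app_eq_add p W w
    refine ⟨W, hW, hxW, α, β, ?_⟩
    rw [res_sec, res_sec, ← hαβ]
    exact hw.symm
  have hloc' : ∀ (U : X.Opens) (n : Γ(N, U)) (x : X), x ∈ U → ∃ (W : X.Opens) (h : W ≤ U), x ∈ W ∧
      ∃ α β : Γ(X, W), res N h n = α • res N le_top t' + β • res N le_top s' := by
    intro U n x hx
    obtain ⟨W, hW, hxW, α, β, h⟩ := hloc U n x hx
    exact ⟨W, hW, hxW, β, α, by rw [h, add_comm]⟩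
  have hcov : Covers s' t' := by
    intro x
    obtain ⟨V, hxV, h⟩ := exists_smul_eq (hval x) hM s t
    refine ⟨V, hxV, ?_⟩
    have hi := Groth.Agent.CohqB.QC4.app_injective_of_mono ι V
    have es : ι.app V (res N le_top s') = res M le_top s := by rw [app_res, hs']
    have et : ι.app V (res N le_top t') = res M le_top t := by rw [app_res, ht']
    rcases h with ⟨a, ha⟩ | ⟨a, ha⟩
    · refine Or.inl (isGen_of_smul_eq hM ι hs0 hloc a (hi ?_))
      rw [et, Scheme.Modules.Hom.app_smul, es, ha]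
    · refine Or.inr (isGen_of_smul_eq hM ι ht0 hloc' a (hi ?_))
      rw [es, Scheme.Modules.Hom.app_smul, et, ha]
  refine ⟨N, (isInvertible_iff N).2 fun x => ?_, ι, inferInstance, s', t', hs', ht', hcov⟩
  obtain ⟨V, hxV, h | h⟩ := hcov x
  · exact ⟨V, _, hxV, h⟩
  · exact ⟨V, _, hxV, h⟩

end K328.SubGen
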