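import Groth.Agent.Curves.K328.QuadSplit
import Groth.Agent.Curves.K328.SubGen
import Groth.Agent.Curves.K328.Mult
import Groth.Agent.CohqB.TwistMono
import Groth.Agent.Grpsch.PicGrp

/-!
# Splitting an invertible module with a quadratic relation of small rank among its sections

`X` integral with valuation rings as local rings, over an algebraically closed field of characteristic not two.
If `h^0(M) = n ≤ 4` and `2 h^0(M ⊗ M) < n (n + 1)` then `M ≅ F ⊗ N` with `h^0(F), h^0(N) ≥ 2`.
-/

set_option autoImplicit false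
universe u
open CategoryTheory CategoryTheory.Limits AlgebraicGeometry Opposite TopologicalSpace
open Groth.Agent.Fdesc.LocGen Groth.Agent.CurvesB.HZero Groth.Agent.Old.H24.MulHom
open Groth.Agent.CurvesB.InvEmb K328.Mult

namespace K328.Split

variable {X : Scheme.{u}}

/-- Two sections related by `σ₁ ⊗ σ₂ = σ₃ ⊗ σ₄`, where `s', t'` generate `N ⊆ M` and map to `σ₁, σ₃`. -/
theorem exists_section {M N F : X.Modules} (hM : PicF.IsInvertible M) (hN : PicF.IsInvertible N) (ι : N ⟶ M)
    [Mono ι] (e : CohB1.tensorMod F N ≅ M) {s t : Γ(N, ⊤)} (h : Covers s t) (a b : Γ(M, ⊤))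
    (hab : tmul (ι.app ⊤ t) a = tmul (ι.app ⊤ s) b) :
    ∃ c : Γ(F, ⊤), e.hom.app ⊤ (tmul c s) = a ∧ e.hom.app ⊤ (tmul c t) = b := by
  have key : tmul (e.inv.app ⊤ a) t = tmul (e.inv.app ⊤ b) s := by
    let E := Groth.Agent.Ega2.Tens.mapTIso e (Iso.refl N)
    let S := Groth.Agent.Ega2.Tens.swap M N
    have hE : ∀ (x : Γ(M, ⊤)) (y : Γ(N, ⊤)), S.hom.app ⊤ (E.hom.app ⊤ (tmul (e.inv.app ⊤ x) y)) = tmul y x := by
      intro x y
      have h1 : E.hom.app ⊤ (tmul (e.inv.app ⊤ x) y) = tmul (e.hom.app ⊤ (e.inv.app ⊤ x)) y :=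
        Groth.Agent.CohqB.TwistMono.mapT_tmul' e.hom (𝟙 N) _ _
      have h2 : e.hom.app ⊤ (e.inv.app ⊤ x) = x := congr(($(e.inv_hom_id)).app ⊤ x)
      rw [h1, h2]
      exact Groth.Agent.Ega2.Tens.swapHom_tmul x y
    have hinj1 : Function.Injective (E.hom.app ⊤) := by
      intro x y hxy
      have := congrArg (E.inv.app ⊤) hxy
      have h1 : ∀ z, E.inv.app ⊤ (E.hom.app ⊤ z) = z := fun z => congr(($(E.hom_inv_id)).app ⊤ z)
      rwa [h1, h1] at this
    have hinj2 : Function.Injective (S.hom.app ⊤) := by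
      intro x y hxy
      have := congrArg (S.inv.app ⊤) hxy
      have h1 : ∀ z, S.inv.app ⊤ (S.hom.app ⊤ z) = z := fun z => congr(($(S.hom_inv_id)).app ⊤ z)
      rwa [h1, h1] at this
    have hinj3 := Groth.Agent.CohqB.TwistMono.mapT_injective (N := M) ι
      (fun U => Groth.Agent.CohqB.QC4.app_injective_of_mono ι U) hM ⊤
    apply hinj1
    apply hinj2
    rw [hE, hE]
    apply hinj3
    refine (Groth.Agent.CohqB.TwistMono.mapT_tmul' ι (𝟙 M) t a).trans
      (Eq.trans hab (Groth.Agent.CohqB.TwistMono.mapT_tmul' ι (𝟙 M) s b).symm)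
  obtain ⟨c, hc1, hc2⟩ := h.exists_eq (F := F) hN _ _ key
  refine ⟨c, ?_, ?_⟩
  · rw [hc1]
    exact congr(($(e.inv_hom_id)).app ⊤ a)
  · rw [hc2]
    exact congr(($(e.inv_hom_id)).app ⊤ b)

variable (k : Type u) [Field k] [X.Over (Spec (CommRingCat.of k))]

/-- Two linearly independent sections. -/
theorem two_le_finrank {L : X.Modules} [Module.Finite k (Coh.HH X L 0)] (s t : Γ(L, ⊤))
    (h : ∀ a b : k, gl k X a • s + gl k X b • t = 0 → a = 0 ∧ b = 0) :
    2 ≤ Module.finrank k (Coh.HH X L 0) := by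
  have hli : LinearIndependent k ![(equivAdd L).symm s, (equivAdd L).symm t] := by
    rw [LinearIndependent.pair_iff]
    intro a b hab
    apply h
    have h1 := congrArg (equivAdd L) hab
    rw [map_add, equivAdd_smul_over, equivAdd_smul_over, AddEquiv.apply_symm_apply,
      AddEquiv.apply_symm_apply, map_zero] at h1
    exact h1
  have := hli.fintype_card_le_finrank
  simpa using this

theorem tmul_gl {F N : X.Modules} (a b : k) (c d : Γ(F, ⊤)) (t : Γ(N, ⊤)) :
    tmul (gl k X a • c + gl k X b • d) t = gl k X a • tmul c t + gl k X b • tmul d t := by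
  rw [add_tmul, smul_tmul, smul_tmul]

theorem main [IsAlgClosed k] [IsIntegral X] (h2 : (2 : k) ≠ 0)
    (hfin : ∀ (L : X.Modules), PicF.IsInvertible L → Module.Finite k (Coh.HH X L 0))
    (hval : ∀ x : X, ValuationRing (X.presheaf.stalk x)) {M : X.Modules} (hM : PicF.IsInvertible M)
    (h4 : Module.finrank k (Coh.HH X M 0) ≤ 4)
    (hlt : 2 * Module.finrank k (Coh.HH X (CohB1.tensorMod M M) 0) <
      Module.finrank k (Coh.HH X M 0) * (Module.finrank k (Coh.HH X M 0) + 1)) :
    ∃ (F N : X.Modules) (_ : PicF.IsInvertible F) (_ : PicF.IsInvertible N)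
      (_ : CohB1.tensorMod F N ≅ M), 2 ≤ Module.finrank k (Coh.HH X F 0) ∧
        2 ≤ Module.finrank k (Coh.HH X N 0) := by
  have f1 := hfin M hM
  have f2 := hfin _ (isInvertible_tensorMod hM hM)
  have hmul : ∀ x y, equivAdd _ (mulL k M M 0 x y) = tmul (equivAdd M y) (equivAdd M x) :=
    fun x y => mulL_zero_apply k M M x y
  have hsym : ∀ x y, mulL k M M 0 x y = mulL k M M 0 y x := by
    intro x y
    apply (equivAdd _).injective
    rw [hmul, hmul, tmul_comm' hM]
  have hdom : ∀ x y, mulL k M M 0 x y = 0 → x = 0 ∨ y = 0 := by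
    intro x y h
    have h1 := hmul x y
    rw [h, map_zero] at h1
    rcases tmul_eq_zero (locEmb_of_isInvertible hM) hM h1.symm with h3 | h3
    · exact Or.inr ((map_eq_zero_iff _ (equivAdd M).injective).1 h3)
    · exact Or.inl ((map_eq_zero_iff _ (equivAdd M).injective).1 h3)
  obtain ⟨s₁, s₂, s₃, s₄, hrel, h13, h23⟩ := K328.QuadSplit.main h2 (mulL k M M 0) hsym hdom h4 hlt
  have hrel' : tmul (equivAdd M s₁) (equivAdd M s₂) = tmul (equivAdd M s₃) (equivAdd M s₄) := by
    have h1 := hmul s₂ s₁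
    have h3 := hmul s₄ s₃
    rw [hsym] at h1 h3
    rw [← h1, ← h3, hrel]
  have hne1 : equivAdd M s₁ ≠ 0 := by
    intro h0
    rw [map_eq_zero_iff _ (equivAdd M).injective] at h0
    have := (h13 1 0 (by rw [h0]; simp)).1
    exact one_ne_zero this
  have hne3 : equivAdd M s₃ ≠ 0 := by
    intro h0
    rw [map_eq_zero_iff _ (equivAdd M).injective] at h0
    have := (h13 0 1 (by rw [h0]; simp)).2
    exact one_ne_zero this
  obtain ⟨N, hN, ι, hι, s', t', hs', ht', hcov⟩ := K328.SubGen.exists_sub hval hM _ _ hne1 hne3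
  obtain ⟨N', hN', ⟨i⟩⟩ := Groth.Agent.Grpsch.PicGrp.exists_inverse hN
  let F := CohB1.tensorMod M N'
  have hF : PicF.IsInvertible F := isInvertible_tensorMod hM hN'
  let e : CohB1.tensorMod F N ≅ M :=
    Groth.Agent.Ega2.Tens.assoc _ _ _ ≪≫ Groth.Agent.Ega2.Tens.mapTIso (Iso.refl _)
      (Groth.Agent.Ega2.Tens.swap _ _ ≪≫ i) ≪≫ Groth.Agent.Ega2.Tens.runit _
  have hfF := hfin F hF
  have hfN := hfin N hN
  -- the section given by the inclusion
  obtain ⟨β, -, hβ⟩ := exists_section hM hN ι e hcov (equivAdd M s₁) (equivAdd M s₃)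
    (by rw [hs', ht']; exact tmul_comm' hM _ _)
  -- the section given by the relation
  have hcov' : Covers t' s' := fun x => by
    obtain ⟨V, hV, h⟩ := hcov x
    exact ⟨V, hV, h.symm⟩
  obtain ⟨c, hc, -⟩ := exists_section hM hN ι e hcov' (equivAdd M s₂) (equivAdd M s₄)
    (by rw [hs', ht']; exact hrel')
  refine ⟨F, N, hF, hN, e, ?_, ?_⟩
  · refine two_le_finrank k c β fun a b hab => h23 a b ?_
    apply (equivAdd M).injective
    rw [map_add, equivAdd_smul_over, equivAdd_smul_over, map_zero, ← hc, ← hβ,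
      ← Scheme.Modules.Hom.app_smul, ← Scheme.Modules.Hom.app_smul, ← map_add, ← tmul_gl, hab,
      Groth.Agent.Ega2.TensGen.zero_tmul, map_zero]
  · refine two_le_finrank k s' t' fun a b hab => h13 a b ?_
    apply (equivAdd M).injective
    rw [map_add, equivAdd_smul_over, equivAdd_smul_over, map_zero, ← hs', ← ht',
      ← Scheme.Modules.Hom.app_smul, ← Scheme.Modules.Hom.app_smul, ← map_add, hab, map_zero]

end K328.Split
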