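import Groth.Agent.Curves.K328.Genus9
import Groth.Agent.Curves.K328.Split
import Groth.Agent.Picfga.CurvePts
import Groth.Prelude.Def_LinSer

/-!
# Curves of genus nine and Clifford index one or two have a pencil computing it
-/

set_option autoImplicit false
universe u
open CategoryTheory CategoryTheory.Limits AlgebraicGeometry Opposite TopologicalSpace
open Groth.Agent.Grpsch.PicGrp Groth.Agent.Fdesc.LocGen Groth.Agent.CurvesB.HZero
open K328.PicCalc K328.Genus9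

namespace K328.CliffNine

section

variable (k : Type u) [Field k] (X : Scheme.{u}) [X.Over (Spec (CommRingCat.of k))]

/-- Serre duality for classes of invertible modules. -/
def SerreClass : Prop := ∃ K : Pic X, ∀ c : Pic X, hh k X 1 c = hh k X 0 (K * c⁻¹)

/-- A linear pencil from a class. -/
theorem exists_isLinSer [IsProper (X ↘ (Spec (CommRingCat.of k)))] {c : Pic X} {d : ℕ} (hd : dg k X c = d)
    (h : 2 ≤ hh k X 0 c) :
    ∃ (L : X.Modules) (s : Fin (1 + 1) → LinSer.Sect X L), LinSer.IsLinSer k X L d 1 s := by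
  induction c using ind with | _ L hL => ?_
  have hfin := finite_HH k X hL 0
  rw [hh_mk] at h
  have hf := (Module.finBasis k (Coh.HH X L 0)).linearIndependent.comp (Fin.castLE h) (Fin.castLE_injective h)
  refine ⟨L, fun i => equivAdd L ((Module.finBasis k (Coh.HH X L 0)) (Fin.castLE h i)), hL, hd, fun c hc => ?_⟩
  have h1 : ∑ i : Fin 2, c i • (Module.finBasis k (Coh.HH X L 0)) (Fin.castLE h i) = 0 := by
    apply (equivAdd L).injective
    rw [map_sum, map_zero]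
    refine Eq.trans (Finset.sum_congr rfl fun i _ => ?_) hc
    exact equivAdd_smul_over L (c i) _
  exact funext (Fintype.linearIndependent_iff.1 hf c h1)

end

variable (k : Type u) [Field k] [IsAlgClosed k] (X : Scheme.{u}) [X.Over (Spec (CommRingCat.of k))]
  [IsIntegral X] [IsProper (X ↘ (Spec (CommRingCat.of k)))] [Smooth (X ↘ Spec (CommRingCat.of k))]
  (hdim : topologicalKrullDim X = 1)

include hdim in
theorem split (h2 : (2 : k) ≠ 0) (c : Pic X) (h4 : hh k X 0 c ≤ 4)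
    (hlt : 2 * hh k X 0 (c * c) < hh k X 0 c * (hh k X 0 c + 1)) :
    ∃ a b : Pic X, c = a * b ∧ 2 ≤ hh k X 0 a ∧ 2 ≤ hh k X 0 b := by
  induction c using ind with | _ M hM => ?_
  obtain ⟨F, N, hF, hN, e, h1, h3⟩ := K328.Split.main k h2 (fun L hL => finite_HH k X hL 0)
    (fun x => Groth.Agent.Picfga.CurvePts.valuationRing_stalk (X ↘ Spec (CommRingCat.of k)) hdim.le x)
    hM h4 hlt
  exact ⟨mk F hF, mk N hN, (mk_congr e).symm, h1, h3⟩

variable (hg : Curv2.genus k X = 9) (hS : SerreClass k X)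

include hdim hg hS in
/-- Genus nine, Clifford index one: a pencil of degree three. -/
theorem index_one (h2 : (2 : k) ≠ 0)
    (hex : ∃ c : Pic X, 2 ≤ hh k X 0 c ∧ 2 ≤ hh k X 1 c ∧ dg k X c = 2 * (hh k X 0 c : ℤ) - 1)
    (hmin : ∀ c : Pic X, 2 ≤ hh k X 0 c → 2 ≤ hh k X 1 c → 2 * (hh k X 0 c : ℤ) - 1 ≤ dg k X c) :
    ∃ c : Pic X, dg k X c = 3 ∧ 2 ≤ hh k X 0 c := by
  have h1 : hh k X 0 1 = 1 := hh_one_one k X
  have RR : ∀ c : Pic X, (hh k X 0 c : ℤ) - hh k X 1 c = dg k X c + 1 - 9 := by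
    intro c
    rw [rr k X hdim h1 c, hg]
    rfl
  obtain ⟨K, hK⟩ := hS
  have hinv : ∀ c : Pic X, K * (K * c⁻¹)⁻¹ = c := fun c => by rw [← div_eq_mul_inv, ← div_eq_mul_inv, div_div_cancel]
  -- a class with small `h^0`
  obtain ⟨c, c0, c1, cd, cs⟩ : ∃ c : Pic X, 2 ≤ hh k X 0 c ∧ 2 ≤ hh k X 1 c ∧
      dg k X c = 2 * (hh k X 0 c : ℤ) - 1 ∧ hh k X 0 c ≤ 4 := by
    obtain ⟨c, c0, c1, cd⟩ := hex
    have r := RR c
    by_cases h : hh k X 0 c ≤ 4
    · exact ⟨c, c0, c1, cd, h⟩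
    · have e0 : hh k X 0 (K * c⁻¹) = hh k X 1 c := (hK c).symm
      have e1 : hh k X 1 (K * c⁻¹) = hh k X 0 c := by rw [hK, hinv]
      have r' := RR (K * c⁻¹)
      refine ⟨K * c⁻¹, ?_, ?_, ?_, ?_⟩ <;> omega
  have low : ∀ a : Pic X, 2 ≤ hh k X 0 a → 3 ≤ dg k X a := by
    intro a ha
    have r := RR a
    have m := hmin a ha
    omega
  by_cases hc2 : hh k X 0 c = 2
  · exact ⟨c, by rw [cd, hc2]; norm_num, hc2.ge⟩
  have r := RR c
  have r2 := RR (c * c)
  have e2 := dg_mul k X hdim c c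
  have m2 := hmin (c * c)
  obtain ⟨a, b, hab, ha, hb⟩ := split k X hdim h2 c cs (by
    rcases (show hh k X 0 c = 3 ∨ hh k X 0 c = 4 by omega) with h | h <;> rw [h] <;> omega)
  have e3 := dg_mul k X hdim a b
  rw [← hab] at e3
  have la := low a ha
  have lb := low b hb
  rcases (show dg k X a = 3 ∨ dg k X b = 3 by omega) with h | h
  · exact ⟨a, h, ha⟩
  · exact ⟨b, h, hb⟩

include hdim hg hS in
/-- Genus nine, Clifford index two: a pencil of degree four. -/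
theorem index_two (h2 : (2 : k) ≠ 0)
    (hex : ∃ c : Pic X, 2 ≤ hh k X 0 c ∧ 2 ≤ hh k X 1 c ∧ dg k X c = 2 * (hh k X 0 c : ℤ))
    (hmin : ∀ c : Pic X, 2 ≤ hh k X 0 c → 2 ≤ hh k X 1 c → 2 * (hh k X 0 c : ℤ) ≤ dg k X c) :
    ∃ c : Pic X, dg k X c = 4 ∧ 2 ≤ hh k X 0 c := by
  have h1 : hh k X 0 1 = 1 := hh_one_one k X
  have RR : ∀ c : Pic X, (hh k X 0 c : ℤ) - hh k X 1 c = dg k X c + 1 - 9 := by
    intro c
    rw [rr k X hdim h1 c, hg]
    rfl
  obtain ⟨K, hK⟩ := hS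
  have hinv : ∀ c : Pic X, K * (K * c⁻¹)⁻¹ = c := fun c => by rw [← div_eq_mul_inv, ← div_eq_mul_inv, div_div_cancel]
  -- a class with small `h^0`
  obtain ⟨c, c0, c1, cd, cs⟩ : ∃ c : Pic X, 2 ≤ hh k X 0 c ∧ 2 ≤ hh k X 1 c ∧
      dg k X c = 2 * (hh k X 0 c : ℤ) ∧ hh k X 0 c ≤ 4 := by
    obtain ⟨c, c0, c1, cd⟩ := hex
    have r := RR c
    by_cases h : hh k X 0 c ≤ 4
    · exact ⟨c, c0, c1, cd, h⟩
    · have e0 : hh k X 0 (K * c⁻¹) = hh k X 1 c := (hK c).symm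
      have e1 : hh k X 1 (K * c⁻¹) = hh k X 0 c := by rw [hK, hinv]
      have r' := RR (K * c⁻¹)
      refine ⟨K * c⁻¹, ?_, ?_, ?_, ?_⟩ <;> omega
  have low : ∀ a : Pic X, 2 ≤ hh k X 0 a → 4 ≤ dg k X a := by
    intro a ha
    have r := RR a
    have m := hmin a ha
    omega
  by_cases hc2 : hh k X 0 c = 2
  · exact ⟨c, by rw [cd, hc2]; norm_num, hc2.ge⟩
  have r := RR c
  have r2 := RR (c * c)
  have e2 := dg_mul k X hdim c c
  have m2 := hmin (c * c)
  by_cases h6 : hh k X 0 c = 3 ∧ hh k X 0 (c * c) = 6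
  · have e0 : hh k X 0 (K * (c * c)⁻¹) = hh k X 1 (c * c) := (hK _).symm
    have e1 : hh k X 1 (K * (c * c)⁻¹) = hh k X 0 (c * c) := by rw [hK, hinv]
    have r' := RR (K * (c * c)⁻¹)
    refine ⟨K * (c * c)⁻¹, ?_, ?_⟩ <;> omega
  obtain ⟨a, b, hab, ha, hb⟩ := split k X hdim h2 c cs (by
    rcases (show hh k X 0 c = 3 ∨ hh k X 0 c = 4 by omega) with h | h <;> rw [h] <;> omega)
  have e3 := dg_mul k X hdim a b
  rw [← hab] at e3
  have la := low a ha
  have lb := low b hb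
  rcases (show dg k X a = 4 ∨ dg k X b = 4 by omega) with h | h
  · exact ⟨a, h, ha⟩
  · exact ⟨b, h, hb⟩

end K328.CliffNine
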