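import Groth.Agent.Old.H24.MulHom
import Groth.Agent.CurvesB.HZero
import Groth.Agent.Ega1.GlobGenPt
import Mathlib.LinearAlgebra.Dimension.Constructions
import Mathlib.LinearAlgebra.FiniteDimensional.Lemmas

/-!
# Sections of a globally generated invertible module with two-dimensional space of sections

* `covers_of_isGloballyGenerated`: a basis of `H^0` has no common zero;
* `two_le_finrank`: two linearly independent sections.
-/

set_option autoImplicit false
universe u
open CategoryTheory CategoryTheory.Limits AlgebraicGeometry Opposite TopologicalSpace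
open Groth.Agent.Fdesc.LocGen Groth.Agent.CurvesB.HZero Groth.Agent.Old.H24.MulHom

namespace K328.Pencil

variable (k : Type u) [Field k] {X : Scheme.{u}} [X.Over (Spec (CommRingCat.of k))]

/-- A section which is a unit multiple of a generator near `x` generates near `x`. -/
theorem exists_isGen {L : X.Modules} {U : X.Opens} {e : Γ(L, U)} (he : IsGen e) {s : Γ(L, ⊤)} {f : Γ(X, U)}
    (hf : res L le_top s = f • e) {x : X} (hx : x ∈ X.basicOpen f) :
    ∃ V : X.Opens, x ∈ V ∧ IsGen (res L (le_top (a := V)) s) := by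
  refine ⟨X.basicOpen f, hx, ?_⟩
  have h5 : res L (le_top (a := X.basicOpen f)) s = res L (X.basicOpen_le f) (res L (le_top (a := U)) s) := by
    rw [res_res]
  rw [h5, hf, res_smul]
  exact (he.res _).unit_smul (X.toRingedSpace.isUnit_res_basicOpen _)

theorem covers_of_isGloballyGenerated {L : X.Modules} (hL : PicF.IsInvertible L)
    (hg : Curv2.IsGloballyGenerated L) (h2 : Module.finrank k (Coh.HH X L 0) = 2) :
    ∃ s t : Γ(L, ⊤), Covers s t := by
  have hfin : Module.Finite k (Coh.HH X L 0) := Module.finite_of_finrank_pos (by omega)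
  let v := Module.finBasisOfFinrankEq k (Coh.HH X L 0) h2
  refine ⟨equivAdd L (v 0), equivAdd L (v 1), fun x => ?_⟩
  obtain ⟨m, hm⟩ := Groth.Agent.Ega1.GlobGenPt.exists_mem_genLocus hL hg x
  obtain ⟨U, e, hxU, he⟩ := (isInvertible_iff L).1 hL x
  obtain ⟨f, hf⟩ := he.exists_eq (res L le_top (equivAdd L (v 0)))
  obtain ⟨g, hg'⟩ := he.exists_eq (res L le_top (equivAdd L (v 1)))
  let y := (equivAdd L).symm (sec m ⊤)
  have hy : sec m ⊤ = gl k X (v.repr y 0) • equivAdd L (v 0) + gl k X (v.repr y 1) • equivAdd L (v 1) := by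
    have h1 := v.sum_repr y
    rw [Fin.sum_univ_two] at h1
    have h3 := congrArg (equivAdd L) h1
    rw [map_add, equivAdd_smul_over, equivAdd_smul_over, AddEquiv.apply_symm_apply] at h3
    exact h3.symm
  have hmU : sec m U = (ores (le_top (a := U)) (gl k X (v.repr y 0)) * f +
      ores (le_top (a := U)) (gl k X (v.repr y 1)) * g) • e := by
    rw [← res_sec m (le_top (a := U)), hy, map_add, res_smul, res_smul, hf, hg', smul_smul, smul_smul, add_smul]
  have hxb : x ∈ X.basicOpen (ores (le_top (a := U)) (gl k X (v.repr y 0)) * f +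
      ores (le_top (a := U)) (gl k X (v.repr y 1)) * g) := by
    rw [← genLocus_inf_eq m he hmU]
    exact ⟨hm, hxU⟩
  by_cases h1 : x ∈ X.basicOpen f
  · obtain ⟨V, hV, hgen⟩ := exists_isGen he hf h1
    exact ⟨V, hV, Or.inl hgen⟩
  by_cases h3 : x ∈ X.basicOpen g
  · obtain ⟨V, hV, hgen⟩ := exists_isGen he hg' h3
    exact ⟨V, hV, Or.inr hgen⟩
  exfalso
  rw [Scheme.mem_basicOpen _ _ _ hxU] at hxb h1 h3
  rw [map_add, map_mul, map_mul] at hxb
  have m1 : X.presheaf.germ U x hxU f ∈ IsLocalRing.maximalIdeal (X.presheaf.stalk x) :=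
    (IsLocalRing.mem_maximalIdeal _).2 h1
  have m3 : X.presheaf.germ U x hxU g ∈ IsLocalRing.maximalIdeal (X.presheaf.stalk x) :=
    (IsLocalRing.mem_maximalIdeal _).2 h3
  exact (IsLocalRing.mem_maximalIdeal _).1 (Ideal.add_mem _ (Ideal.mul_mem_left _ _ m1)
    (Ideal.mul_mem_left _ _ m3)) hxb

end K328.Pencil
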