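import Groth.Agent.Curves.K328.PicCalc
import Groth.Agent.Curves.K328.Mult
import Groth.Agent.Curves.K328.Pencil

/-!
# Numerical consequences of the Clifford index on a curve of genus nine
-/

set_option autoImplicit false
universe u
open CategoryTheory CategoryTheory.Limits AlgebraicGeometry Opposite TopologicalSpace
open Groth.Agent.Grpsch.PicGrp Groth.Agent.Fdesc.LocGen Groth.Agent.CurvesB.HZero
open Groth.Agent.VarietyA.EulerLES Groth.Agent.Old.H24.MulHom K328.PicCalc K328.Mult

namespace K328.Genus9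

/-- Two linear maps from a one-dimensional space to a one-dimensional space: a nontrivial combination vanishes. -/
theorem exists_comb {k A V W : Type*} [Field k] [AddCommGroup A] [Module k A] [AddCommGroup V] [Module k V]
    [AddCommGroup W] [Module k W] [Module.Finite k A] [Module.Finite k V] [Module.Finite k W]
    (T : A →ₗ[k] V →ₗ[k] W) (hA : Module.finrank k V * Module.finrank k W < Module.finrank k A) :
    ∃ a : A, a ≠ 0 ∧ T a = 0 := by
  have h := LinearMap.ker_ne_bot_of_finrank_lt (f := T) (by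
    rw [Module.finrank_linearMap]; exact hA)
  obtain ⟨a, ha, ha0⟩ := Submodule.exists_mem_ne_zero_of_ne_bot h
  exact ⟨a, ha0, ha⟩

variable (k : Type u) [Field k] (X : Scheme.{u}) [X.Over (Spec (CommRingCat.of k))]
variable [IsProper (X ↘ (Spec (CommRingCat.of k)))] [IsIntegral X] (hdim : topologicalKrullDim X = 1)

include hdim in
theorem not_isZero {L : X.Modules} (hL : PicF.IsInvertible L) : ¬ IsZero L := by
  intro h
  obtain ⟨U, e, hxU, he⟩ := (isInvertible_iff L).1 hL (genericPoint X)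
  have h0 : e = 0 := by
    have h1 : (𝟙 L : L ⟶ L) = 0 := h.eq_of_src _ _
    have h2 := congr(($h1).app U e)
    exact h2
  have h2 : (1 : Γ(X, U)) = 0 := he.ext (by rw [h0, smul_zero, smul_zero])
  have : Nontrivial Γ(X, U) := by
    have : Nonempty U := ⟨⟨_, hxU⟩⟩
    infer_instance
  exact one_ne_zero h2

include hdim in
/-- If `h^0(D) ≥ 2` and `h^1(F) = 1` then `H^1(F ⊗ D) = 0`. -/
theorem hh_one_mul_eq_zero {c d : Pic X} (hc : hh k X 1 c ≤ 1) (hd : 2 ≤ hh k X 0 d) : hh k X 1 (c * d) = 0 := by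
  induction c using ind with | _ F hF => ?_
  induction d using ind with | _ L hL => ?_
  rw [mk_mul_mk, hh_mk]
  rw [hh_mk] at hc hd
  have := Groth.Agent.CurvesB.CurveRR.isNoetherian_of_proper k X
  have f1 := finite_HH k X hF 1
  have f2 := finite_HH k X hL 0
  have f3 := finite_HH k X (isInvertible_tensorMod hF hL) 1
  have hsurj : ∀ m : Coh.HH X L 0, m ≠ 0 → Function.Surjective (mulL k F L 1 m) := fun m hm =>
    mulL_surjective k hdim.le (Groth.Agent.CurvesB.InvEmb.locEmb_of_isInvertible hF)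
      (not_isZero X hdim hF) hL hm 0
  have hnt : Nontrivial (Coh.HH X L 0) := Module.nontrivial_of_finrank_pos (R := k) (by omega)
  obtain ⟨m0, hm0⟩ := exists_ne (0 : Coh.HH X L 0)
  have hle : Module.finrank k (Coh.HH X (CohB1.tensorMod F L) 1) ≤ 1 :=
    (LinearMap.finrank_le_finrank_of_surjective (hsurj m0 hm0)).trans hc
  obtain ⟨m, hm, hm1⟩ := exists_comb (mulL k F L 1) (by
    calc _ ≤ 1 * 1 := Nat.mul_le_mul hc hle
      _ < _ := by omega)
  have h1 := hsurj m hm
  rw [hm1] at h1
  have : Subsingleton (Coh.HH X (CohB1.tensorMod F L) 1) := by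
    refine ⟨fun a b => ?_⟩
    obtain ⟨x, rfl⟩ := h1 a
    obtain ⟨y, rfl⟩ := h1 b
    rfl
  exact Module.finrank_zero_of_subsingleton

theorem bpf_of_isGloballyGenerated {L : X.Modules} (hL : PicF.IsInvertible L) (hg : Curv2.IsGloballyGenerated L)
    (h2 : Module.finrank k (Coh.HH X L 0) = 2) : BPF X (mk L hL) := by
  obtain ⟨s, t, h⟩ := K328.Pencil.covers_of_isGloballyGenerated k hL hg h2
  exact ⟨L, hL, s, t, h, rfl⟩

theorem hh_one_one [IsAlgClosed k] : hh k X 0 1 = 1 := by
  rw [hh_one]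
  exact Groth.Agent.VarietyA.CurveFin.finrank_h0_structure k X

/-- A module whose tensor product with an invertible module is invertible is invertible. -/
theorem exists_of_tensor {D N H : X.Modules} (hD : PicF.IsInvertible D) (hH : PicF.IsInvertible H)
    (e : CohB1.tensorMod D N ≅ H) : ∃ hN : PicF.IsInvertible N, mk N hN = mk H hH * (mk D hD)⁻¹ := by
  obtain ⟨D', hD', ⟨i⟩⟩ := exists_inverse hD
  have e1 : N ≅ CohB1.tensorMod D' H :=
    (Groth.Agent.Ega2.Tens.lunit N).symm ≪≫ Groth.Agent.Ega2.Tens.mapTIso i.symm (Iso.refl _) ≪≫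
      Groth.Agent.Ega2.Tens.mapTIso (Groth.Agent.Ega2.Tens.swap _ _) (Iso.refl _) ≪≫
      Groth.Agent.Ega2.Tens.assoc _ _ _ ≪≫ Groth.Agent.Ega2.Tens.mapTIso (Iso.refl _) e
  have hN : PicF.IsInvertible N := by
    have h1 := isInvertible_tensorMod hD' hH
    rw [isInvertible_iff] at h1 ⊢
    intro x
    obtain ⟨U, s, hx, hs⟩ := h1 x
    exact ⟨U, e1.inv.app U s, hx, hs.app e1.inv⟩
  refine ⟨hN, ?_⟩
  rw [eq_mul_inv_iff_mul_eq, mul_comm, mk_mul_mk]
  exact mk_congr e

end K328.Genus9
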