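import Groth.Agent.Curves.K328.Noether

/-!
# Max Noether's theorem

On a non-hyperelliptic curve of genus at least three the multiplication maps
`H^0(K^m) ⊗ H^0(K) → H^0(K^(m+1))`, `m ≥ 1`, are surjective: `functional_eq_zero`, `span_eq_top`.
-/

set_option autoImplicit false
universe u
open CategoryTheory CategoryTheory.Limits AlgebraicGeometry Opposite TopologicalSpace
open Groth.Agent.Fdesc.LocGen Groth.Agent.Old.H24.MulHom Groth.Agent.CurvesB.HZero
open Groth.Agent.CurvesB.InvEmb Groth.Agent.CurvesB.RankOne Groth.Agent.VarietyA.EulerLES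
open Groth.Agent.Grpsch.PicGrp K532.CurvePic K319.PicCD
open K328.Mult K328.NoetherGood K328.Noether
open Groth.Agent.Ega2.Tens (mapT mapT_id mapT_comp mapTIso runit sm hom_ext₃ hom_ext)

namespace K328.MaxNoether

variable (k : Type u) [Field k] [IsAlgClosed k] {X : Scheme.{u}} [X.Over (Spec (CommRingCat.of k))] [IsIntegral X]
  [IsProper (X ↘ (Spec (CommRingCat.of k)))] (hX : Reg X) (hg : 3 ≤ Curv2.genus k X)
  (hnh : ∀ M : X.Modules, PicF.IsInvertible M → Curv2.deg k X M 1 = 2 → Module.finrank k (Coh.HH X M 0) ≤ 1)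

include hnh in
theorem not_exists : ¬ ∃ a, (cd k X hX).deg a = 2 ∧ 2 ≤ (cd k X hX).h a := by
  rintro ⟨a, h1, h2⟩
  obtain ⟨M, hM, hc⟩ := exists_mk a.toMul
  have h3 : deg k X (mk M hM) = 2 := by rw [← hc]; exact h1
  have h4 : 2 ≤ h k X 0 (mk M hM) := by rw [← hc]; exact h2
  rw [deg_mk k X hX.dim hM] at h3
  have := hnh M hM h3
  rw [h_mk] at h4
  omega

/-- The canonical class. -/
noncomputable abbrev ka : Pic X := om (hX.isCurve (k := k))

theorem one_le_h1 {K : X.Modules} (hK : PicF.IsInvertible K) (hKc : mk K hK = ka k hX) {N : X.Modules}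
    (hN : PicF.IsInvertible N) (ι : N ⟶ K) [Mono ι] : 1 ≤ h k X 1 (mk N hN) := by
  have hC := hX.isCurve (k := k)
  have hn := isNoeth k X
  have hι : ι ≠ 0 := by
    intro hcon
    apply not_isZero hN
    rw [IsZero.iff_id_eq_zero, ← cancel_mono ι, hcon, comp_zero, comp_zero]
  have h2 : Function.Surjective (mapA k ι 1) :=
    Groth.Agent.CurvesB.CurveRR.hmap_surjective hX.dim.le (locEmb_of_isInvertible hK) ι hι 0
  have f1 := finite_HH hC hN 1
  have h3 := LinearMap.finrank_le_finrank_of_surjective h2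
  have h4 := h1_om hC
  rw [show om hC = mk K hK from hKc.symm, h_mk] at h4
  rw [h_mk]
  omega

include hnh in
/-- A submodule `N` of `K` of positive degree with `h^0(N) + h^1(N) ≥ g + 1`. -/
theorem class_eq {K : X.Modules} (hK : PicF.IsInvertible K) (hKc : mk K hK = ka k hX) {N : X.Modules}
    (hN : PicF.IsInvertible N) (ι : N ⟶ K) [Mono ι] (h0 : 0 < h k X 0 (mk N hN)) (hd : 1 ≤ deg k X (mk N hN))
    (hs : Curv2.genus k X + 1 ≤ h k X 0 (mk N hN) + h k X 1 (mk N hN)) : Curv2.deg k X N 1 = Curv2.deg k X K 1 := by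
  have hC := hX.isCurve (k := k)
  have hser : h k X 1 (mk N hN) = (cd k X hX).h ((cd k X hX).K - Additive.ofMul (mk N hN)) := by
    rw [serre hC, ← div_eq_mul_inv]
    rfl
  have h1 := one_le_h1 k hX hK hKc hN ι
  have h2 : mk N hN = ka k hX := eq_K (cd k X hX) (not_exists k hX hnh) (Additive.ofMul (mk N hN)) h0.ne'
    (by rw [← hser]; omega) hd (by rw [← hser]; exact hs)
  rw [← deg_mk k X hX.dim hN, ← deg_mk k X hX.dim hK, h2, hKc]

include hX in
theorem h0_le_one {c : Pic X} (hd : deg k X c ≤ 0) : h k X 0 c ≤ 1 := by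
  rcases Nat.eq_zero_or_pos (h k X 0 c) with h0 | h0
  · omega
  · rw [eq_one_of_deg_nonpos (hX.isCurve (k := k)) h0 hd, h0_one (hX.isCurve (k := k))]

variable {F' K : X.Modules} (hF' : PicF.IsInvertible F') (hK : PicF.IsInvertible K) (hKc : mk K hK = ka k hX)

include hg hnh hKc in
theorem functional_eq_zero_of_pos (hval : ∀ x : X, ValuationRing (X.presheaf.stalk x)) (m : ℕ) (hm : 1 ≤ m) (hFc : mk F' hF' = ka k hX ^ m)
    (φ : Coh.HH X (CohB1.tensorMod (CohB1.tensorMod F' K) K) 0 →ₗ[k] k) (hφ : Kills k φ) : φ = 0 := by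
  have hC := hX.isCurve (k := k)
  have hdK := deg_om hC
  have h0K := h0_om hC
  -- a nonzero section of `K`
  have f0 := finite_HH hC hK 0
  have hK0 : Module.finrank k (Coh.HH X K 0) = Curv2.genus k X := by rw [← h_mk k X 0 hK, hKc]; exact h0K
  have hnt : Nontrivial (Coh.HH X K 0) := Module.nontrivial_of_finrank_pos (R := k) (by omega)
  obtain ⟨t, ht⟩ := exists_ne (0 : Coh.HH X K 0)
  have ht' : homOf (equivAdd K t) ≠ 0 := by
    intro hcon
    apply ht
    apply (equivAdd K).injective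
    have h1 : sec (homOf (equivAdd K t)) ⊤ = sec (0 : Coh.structureModule X ⟶ K) ⊤ := by rw [hcon]
    rw [sec_homOf, res_refl] at h1
    rw [h1, map_zero]
    rfl
  have hmono := mono_of_ne_zero (locEmb_of_isInvertible hK) _ ht'
  refine induct k hX.dim hval hF' hK φ hφ 0 ?_ _ (Coh.structureModule X) isInvertible_structureModule
    (homOf (equivAdd K t)) (good_unit k hK φ hφ _) ?_ ?_ rfl
  · intro N hN ι _ h0 hd hle
    have e1 : h k X 1 (mk F' hF' * mk N hN) = Module.finrank k (Coh.HH X (CohB1.tensorMod F' N) 1) := rfl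
    rw [hK0, ← e1, serre hC, hFc] at hle
    have hdN : deg k X (mk N hN) = Curv2.deg k X N 1 := deg_mk k X hX.dim hN
    have e2 : deg k X (om hC * (ka k hX ^ m * mk N hN)⁻¹) =
        (1 - m) * (2 * (Curv2.genus k X : ℤ) - 2) - deg k X (mk N hN) := by
      rw [deg_mul hC, deg_inv hC, deg_mul hC, deg_pow hC, hdK]
      ring
    have h0' : 0 < h k X 0 (mk N hN) := h0
    have hm' : (1 : ℤ) ≤ m := by exact_mod_cast hm
    have e3 : (1 - (m : ℤ)) * (2 * (Curv2.genus k X : ℤ) - 2) ≤ 0 :=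
      mul_nonpos_of_nonpos_of_nonneg (by omega) (by omega)
    by_cases hd1 : 1 ≤ deg k X (mk N hN)
    · have e4 := h0_eq_zero_of_deg_neg hC (c := om hC * (ka k hX ^ m * mk N hN)⁻¹) (by rw [e2]; omega)
      rw [e4] at hle
      have e5 := one_le_h1 k hX hK hKc hN ι
      exact class_eq k hX hnh hK hKc hN ι h0' hd1 (by
        have e6 : h k X 0 (mk N hN) = Module.finrank k (Coh.HH X N 0) := rfl
        omega)
    · exfalso
      have e4 := h0_le_one k hX (c := om hC * (ka k hX ^ m * mk N hN)⁻¹) (by rw [e2]; omega)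
      have e5 := h0_le_one k hX (c := mk N hN) (by omega)
      have e6 : h k X 0 (mk N hN) = Module.finrank k (Coh.HH X N 0) := rfl
      omega
  · rw [hC.h0]
    exact Nat.one_pos
  · simp [Curv2.deg]

include hg hnh hKc in
theorem functional_eq_zero_of_one (hval : ∀ x : X, ValuationRing (X.presheaf.stalk x)) (hFc : mk F' hF' = 1)
    (φ : Coh.HH X (CohB1.tensorMod (CohB1.tensorMod F' K) K) 0 →ₗ[k] k) (hφ : Kills k φ) : φ = 0 := by
  have hC := hX.isCurve (k := k)
  have hdK := deg_om hC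
  have h0K := h0_om hC
  have h1K := h1_om hC
  have hK0 : Module.finrank k (Coh.HH X K 0) = Curv2.genus k X := by rw [← h_mk k X 0 hK, hKc]; exact h0K
  -- a point `P` and a nonzero map `O(P) → K`
  obtain ⟨P, hP⟩ := (cd k X hX).exists_pt (cd k X hX).K (by rw [(cd k X hX).h_K]; change Curv2.genus k X ≠ 0; omega)
    (by rw [(cd k X hX).deg_K]; change 0 < 2 * (Curv2.genus k X : ℤ) - 2; omega)
  obtain ⟨A, hA, hAc⟩ := exists_mk (pt k X hX P)
  obtain ⟨B, hB, hBc⟩ := exists_mk (ka k hX / pt k X hX P)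
  have hB0 : 0 < h k X 0 (mk B hB) := by rw [← hBc]; exact Nat.pos_of_ne_zero hP
  have hA0 : 0 < h k X 0 (mk A hA) := by
    rw [← hAc]
    have h1 := (cd k X hX).h_p (by change 1 ≤ Curv2.genus k X; omega) P
    have h2 : h k X 0 (pt k X hX P) = 1 := h1
    omega
  have hdA : deg k X (mk A hA) = 1 := by rw [← hAc]; exact deg_pt k X hX P
  have hABK : mk (CohB1.tensorMod A B) (isInvertible_tensorMod hA hB) = mk K hK := by
    rw [← mk_mul_mk hA hB, ← hAc, ← hBc, mul_div_cancel, hKc]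
  obtain ⟨e⟩ := (mk_eq_iff _ _).1 hABK
  obtain ⟨b, hb⟩ := exists_ne_zero hC hB hB0
  obtain ⟨s, hs⟩ := exists_ne_zero hC hA hA0
  have hb' : equivAdd B b ≠ 0 := (map_ne_zero_iff _ (equivAdd B).injective).2 hb
  have hs' : equivAdd A s ≠ 0 := (map_ne_zero_iff _ (equivAdd A).injective).2 hs
  have hm1 : Mono (mulHom A (equivAdd B b)) := mono_mulHom (locEmb_of_isInvertible hA) hB hb'
  let ι : A ⟶ K := mulHom A (equivAdd B b) ≫ e.hom
  have hι : Mono ι := mono_comp _ _
  let σ : Coh.structureModule X ⟶ A := homOf (equivAdd A s)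
  have hσ0 : σ ≠ 0 := by
    intro hcon
    apply hs'
    have h1 : sec σ ⊤ = sec (0 : Coh.structureModule X ⟶ A) ⊤ := by rw [hcon]
    rw [sec_homOf, res_refl] at h1
    rw [h1]
    rfl
  have hσ : Mono σ := mono_of_ne_zero (locEmb_of_isInvertible hA) _ hσ0
  have hgood : Good k φ ι := by
    have h1 : Good k φ (σ ≫ ι) := by
      have h2 : σ ≫ ι = homOf (sec (σ ≫ ι) ⊤) := (homOf_sec _).symm
      rw [h2]
      exact good_unit k hK φ hφ _
    intro x
    -- surjectivity of `H^0((F' ⊗ O) ⊗ K) → H^0((F' ⊗ A) ⊗ K)`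
    let ρ : CohB1.tensorMod (CohB1.tensorMod F' (Coh.structureModule X)) K ⟶
      CohB1.tensorMod (CohB1.tensorMod F' A) K := mapT (mapT (𝟙 F') σ) (𝟙 K)
    have hρ : Function.Injective (mapA k ρ 0) := by
      have h2 := mono_left F' hF' σ
      have h3 := injectiveA₀ k _
        (shortExact_mapT hK (Groth.Agent.VarietyA.StalkCrit.shortExact_cokernel (mapT (𝟙 F') σ)))
      exact h3
    have e1 : Module.finrank k (Coh.HH X (CohB1.tensorMod (CohB1.tensorMod F' (Coh.structureModule X)) K) 0) =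
        Curv2.genus k X := by
      change h k X 0 (mk F' hF' * 1 * mk K hK) = _
      rw [hFc, one_mul, one_mul, hKc]
      exact h0K
    have e2 : Module.finrank k (Coh.HH X (CohB1.tensorMod (CohB1.tensorMod F' A) K) 0) = Curv2.genus k X := by
      change h k X 0 (mk F' hF' * mk A hA * mk K hK) = _
      rw [hFc, one_mul, hKc]
      have h2 := rr' hC (mk A hA * ka k hX)
      have h3 : deg k X (om hC * (mk A hA * ka k hX)⁻¹) = -1 := by
        rw [deg_mul hC, deg_inv hC, deg_mul hC, hdA]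
        ring
      have h5 := h0_eq_zero_of_deg_neg hC (c := om hC * (mk A hA * ka k hX)⁻¹) (by rw [h3]; norm_num)
      rw [h5, deg_mul hC, hdA, hdK] at h2
      have h4 : (h k X 0 (mk A hA * ka k hX) : ℤ) = Curv2.genus k X := by
        push_cast at h2
        linarith
      exact_mod_cast h4
    have f1 := finite_HH hC (isInvertible_tensorMod (isInvertible_tensorMod hF'
      (Groth.Agent.Fdesc.LocGen.isInvertible_structureModule (X := X))) hK) 0
    have f2 := finite_HH hC (isInvertible_tensorMod (isInvertible_tensorMod hF' hA) hK) 0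
    obtain ⟨y, hy⟩ := (LinearMap.injective_iff_surjective_of_finrank_eq_finrank (e1.trans e2.symm)).1 hρ x
    have h3 := h1 y
    have h4 : mapT (mapT (𝟙 F') (σ ≫ ι)) (𝟙 K) = ρ ≫ mapT (mapT (𝟙 F') ι) (𝟙 K) := by
      have h5 := mapT_comp (𝟙 F') σ (𝟙 F') ι
      have h6 := mapT_comp (mapT (𝟙 F') σ) (𝟙 K) (mapT (𝟙 F') ι) (𝟙 K)
      rw [Category.comp_id] at h5 h6
      rw [h5, h6]
    rw [h4, mapA_comp, LinearMap.comp_apply, hy] at h3
    exact h3
  refine induct k hX.dim hval hF' hK φ hφ 1 ?_ _ A hA ι hgood hA0 (by rw [← deg_mk k X hX.dim hA, hdA]) rfl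
  intro N hN ι' _ h0 hd hle
  have e1 : h k X 1 (mk F' hF' * mk N hN) = Module.finrank k (Coh.HH X (CohB1.tensorMod F' N) 1) := rfl
  have e2 : h k X 1 (mk F' hF' * mk K hK) = Module.finrank k (Coh.HH X (CohB1.tensorMod F' K) 1) := rfl
  rw [hK0, ← e1, ← e2, hFc, one_mul, one_mul, hKc, h1K] at hle
  exact class_eq k hX hnh hK hKc hN ι' h0 (by rw [deg_mk k X hX.dim hN]; exact hd) hle

end K328.MaxNoether
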