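import Groth.Agent.Curves.K328.NoetherGood
import Groth.Agent.Curves.K319.CD2
import Groth.Agent.Curves.K319.PicCD
import Groth.Agent.S1521

/-!
# Max Noether's theorem, the induction

`induct`: a functional on `H^0((F' ⊗ K) ⊗ K)` which kills all products and `H^0((F' ⊗ N) ⊗ K)` for a suitable
submodule `N` of `K` is zero.
-/

set_option autoImplicit false
universe u
open CategoryTheory CategoryTheory.Limits AlgebraicGeometry Opposite TopologicalSpace
open Groth.Agent.Fdesc.LocGen Groth.Agent.Old.H24.MulHom Groth.Agent.CurvesB.HZero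
open Groth.Agent.CurvesB.InvEmb Groth.Agent.CurvesB.RankOne Groth.Agent.VarietyA.EulerLES
open K328.Mult K328.NoetherGood
open Groth.Agent.Ega2.Tens (mapT mapT_id mapT_comp mapTIso runit sm hom_ext₃ hom_ext)

namespace K328.Noether

/-- A class `a` of positive degree with `h^0(a) + h^1(a) ≥ g + 1` is the canonical class. -/
theorem eq_K {A : Type*} [AddCommGroup A] {pts : Type*} (C : K319.CD A pts)
    (hnh : ¬ ∃ a, C.deg a = 2 ∧ 2 ≤ C.h a) (a : A) (ha : C.h a ≠ 0) (hs : C.h (C.K - a) ≠ 0) (hd : 1 ≤ C.deg a)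
    (hsum : C.g + 1 ≤ C.h a + C.h (C.K - a)) : a = C.K := by
  by_contra hne
  obtain ⟨N, h1, h2, -⟩ := C.clifford_eq a ha hs (by rintro rfl; rw [map_zero] at hd; omega) hne (by
    have h1 := (C.clifford a ha hs).1
    have h2 := C.rr a
    omega)
  exact hnh ⟨N, h1, h2.ge⟩

variable (k : Type u) [Field k] {X : Scheme.{u}} [X.Over (Spec (CommRingCat.of k))] [IsIntegral X]
  [IsProper (X ↘ (Spec (CommRingCat.of k)))] (hdim : topologicalKrullDim X = 1)
  (hval : ∀ x : X, ValuationRing (X.presheaf.stalk x))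

include hdim hval in
theorem induct {F' K : X.Modules} (hF' : PicF.IsInvertible F') (hK : PicF.IsInvertible K)
    (φ : Coh.HH X (CohB1.tensorMod (CohB1.tensorMod F' K) K) 0 →ₗ[k] k) (hφ : Kills k φ) (d₀ : ℤ)
    (hA : ∀ (N : X.Modules) (_ : PicF.IsInvertible N) (ι : N ⟶ K) [Mono ι], 0 < Module.finrank k (Coh.HH X N 0) →
      d₀ ≤ Curv2.deg k X N 1 →
      Module.finrank k (Coh.HH X K 0) + Module.finrank k (Coh.HH X (CohB1.tensorMod F' K) 1) ≤
        Module.finrank k (Coh.HH X N 0) + Module.finrank k (Coh.HH X (CohB1.tensorMod F' N) 1) →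
      Curv2.deg k X N 1 = Curv2.deg k X K 1) (n : ℕ) :
    ∀ (N : X.Modules) (_ : PicF.IsInvertible N) (ι : N ⟶ K) [Mono ι], Good k φ ι →
      0 < Module.finrank k (Coh.HH X N 0) → d₀ ≤ Curv2.deg k X N 1 →
      (Curv2.deg k X K 1 - Curv2.deg k X N 1).toNat = n → φ = 0 := by
  have := Groth.Agent.CurvesB.CurveRR.isNoetherian_of_proper k X
  induction n using Nat.strong_induction_on with
  | _ n ih =>
    intro N hN ι _ hg h0 hd hn
    have f1 := K328.PicCalc.finite_HH k X hK 0
    have f2 := K328.PicCalc.finite_HH k X (isInvertible_tensorMod hF' hK) 0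
    have f3 := K328.PicCalc.finite_HH k X (isInvertible_tensorMod hF' hN) 0
    have f4 := K328.PicCalc.finite_HH k X (isInvertible_tensorMod hF' hN) 1
    have f5 := K328.PicCalc.finite_HH k X hN 0
    have hι : ι ≠ 0 := by
      intro h
      apply not_isZero hN
      rw [IsZero.iff_id_eq_zero, ← cancel_mono ι, h, comp_zero, comp_zero]
    obtain ⟨W, hW, hgood⟩ := bound k hdim.le hF' hK hN ι φ hφ hg
    by_cases hex : W ≤ LinearMap.range (mapA k ι 0)
    · have h1 := (Submodule.finrank_mono hex).trans (LinearMap.finrank_range_le (mapA k ι 0))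
      have h2 := hA N hN ι h0 hd (by omega)
      have h3 : IsIso ι := (Groth.Agent.S1521.result k X hdim N K hN hK ι hι).2 h2
      ext x
      let e := mapTIso (mapTIso (Iso.refl F') (asIso ι)) (Iso.refl K)
      have h4 := hg ((equivA k e 0).symm x)
      have h5 : mapA k (mapT (mapT (𝟙 F') ι) (𝟙 K)) 0 ((equivA k e 0).symm x) = x :=
        (equivA k e 0).apply_symm_apply x
      rw [h5] at h4
      exact h4
    · obtain ⟨t, htW, ht⟩ := SetLike.not_le_iff_exists.1 hex
      obtain ⟨N', hN', ι', hι', i, t', hi, ht', hloc⟩ := K328.AddSec.exists_add hval hK hN ι (equivAdd K t)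
      have hg' := hgood t htW N' ι' i t' hi ht' hloc
      have him : Mono i := by
        have : Mono (i ≫ ι') := by rw [hi]; infer_instance
        exact mono_of_mono i ι'
      have hi0 : i ≠ 0 := by
        rintro rfl
        exact hι (by rw [← hi, zero_comp])
      have hι0 : ι' ≠ 0 := by
        rintro rfl
        exact hι (by rw [← hi, comp_zero])
      have h1 := Groth.Agent.S1521.result k X hdim N N' hN hN' i hi0
      have h2 := (Groth.Agent.S1521.result k X hdim N' K hN' hK ι' hι0).1
      have f6 := K328.PicCalc.finite_HH k X hN' 0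
      have h3 : Module.finrank k (Coh.HH X N 0) ≤ Module.finrank k (Coh.HH X N' 0) :=
        LinearMap.finrank_le_finrank_of_injective
          (injectiveA₀ k _ (Groth.Agent.VarietyA.StalkCrit.shortExact_cokernel i))
      have h4 : Curv2.deg k X N 1 ≠ Curv2.deg k X N' 1 := by
        intro heq
        have hiso : IsIso i := h1.2 heq
        apply ht
        refine ⟨(equivAdd N).symm ((inv i).app ⊤ t'), ?_⟩
        apply (equivAdd K).injective
        refine (equivAdd_map ι _).trans ?_
        rw [AddEquiv.apply_symm_apply, ← ht', ← hi]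
        change ι'.app ⊤ (i.app ⊤ ((inv i).app ⊤ t')) = ι'.app ⊤ t'
        congr 1
        exact congr(($(IsIso.inv_hom_id i)).app ⊤ t')
      have h5 := lt_of_le_of_ne h1.1 h4
      exact ih (Curv2.deg k X K 1 - Curv2.deg k X N' 1).toNat (by omega) N' hN' ι' hg' (by omega) (by omega) rfl

end K328.Noether
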