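import Groth.Agent.Curves.K328.AddSec
import Groth.Agent.Curves.K328.Mult
import Groth.Agent.Curves.K328.Genus9
import Groth.Agent.PerfB.TensInv
import Groth.Agent.CohqB.TwistMono

/-!
# Functionals on `H^0(F ⊗ K)` killing products and submodules of `K`

`F'`, `K`, `N` invertible modules on an integral curve, `ι : N ⟶ K` a nonzero monomorphism,
`φ : H^0((F' ⊗ K) ⊗ K) → k` killing all products `f · t` and the image of `H^0((F' ⊗ N) ⊗ K)`.  `bound`: the
sections `t` of `K` such that `φ` also kills `H^0((F' ⊗ (N + O t)) ⊗ K)` form a space of dimension at least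
`h^0(K) + h^1(F' ⊗ K) - h^1(F' ⊗ N)`.
-/

set_option autoImplicit false
universe u
open CategoryTheory CategoryTheory.Limits AlgebraicGeometry Opposite TopologicalSpace
open Groth.Agent.Fdesc.LocGen Groth.Agent.Old.H24.MulHom Groth.Agent.CurvesB.HZero
open Groth.Agent.CurvesB.InvEmb Groth.Agent.CurvesB.RankOne Groth.Agent.VarietyA.EulerLES
open K328.Mult
open Groth.Agent.Ega2.Tens (mapT mapT_id mapT_comp mapTIso runit sm hom_ext₃ hom_ext)

namespace K328.NoetherGood

variable {X : Scheme.{u}}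

theorem mapT_app {M M' N N' : X.Modules} (f : M ⟶ M') (g : N ⟶ N') {U : X.Opens} (m : Γ(M, U)) (n : Γ(N, U)) :
    (mapT f g).app U (tmul m n) = tmul (f.app U m) (g.app U n) :=
  Groth.Agent.Ega2.Tens.mapT_tmul f g m n

theorem mapT_zero_left {M M' N N' : X.Modules} (g : N ⟶ N') : mapT (0 : M ⟶ M') g = 0 := by
  refine hom_ext _ _ fun U m n => ?_
  refine (mapT_app (0 : M ⟶ M') g m n).trans ?_
  exact Groth.Agent.Ega2.TensGen.zero_tmul _

theorem shortExact_mapT {K : X.Modules} (hK : PicF.IsInvertible K) {S : ShortComplex X.Modules} (hS : S.ShortExact) :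
    (ShortComplex.mk (mapT S.f (𝟙 K)) (mapT S.g (𝟙 K)) (by
      have h := mapT_comp S.f (𝟙 K) S.g (𝟙 K)
      rw [← h, S.zero, mapT_zero_left])).ShortExact := by
  have hfl := Groth.Agent.PerfB.TensInv.preservesFiniteLimits_of_isInvertible hK
  have h1 := hS.map_of_exact (DCoh.tensorRightMod K)
  refine ShortComplex.shortExact_of_iso (S₁ := S.map (DCoh.tensorRightMod K)) ?_ h1
  refine ShortComplex.isoMk (Iso.refl _) (Iso.refl _) (Iso.refl _) ?_ ?_
  · simp only [Iso.refl_hom]
    refine (Category.id_comp _).trans (Eq.trans ?_ (Category.comp_id _).symm)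
    exact (Groth.Agent.PerfB.TensExact.tensorRightMod_map_eq K S.f).symm
  · simp only [Iso.refl_hom]
    refine (Category.id_comp _).trans (Eq.trans ?_ (Category.comp_id _).symm)
    exact (Groth.Agent.PerfB.TensExact.tensorRightMod_map_eq K S.g).symm

/-- Naturality of multiplication by a section. -/
theorem mulHom_nat {F G L : X.Modules} (π : F ⟶ G) (t : Γ(L, ⊤)) :
    mulHom F t ≫ mapT π (𝟙 L) = π ≫ mulHom G t := by
  apply Scheme.Modules.hom_ext
  intro U
  ext x
  exact mapT_app π (𝟙 L) (x : Γ(F, U)) (res L le_top t)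

/-- `((f' ⊗ a) ⊗ κ) ↦ (f' ⊗ a t) ⊗ κ` is multiplication by `t`. -/
theorem unit_comm (F' : X.Modules) {K : X.Modules} (hK : PicF.IsInvertible K) (t : Γ(K, ⊤)) :
    mapT (runit F').hom (𝟙 K) ≫ mulHom (CohB1.tensorMod F' K) t =
      mapT (mapT (𝟙 F') (homOf t)) (𝟙 K) := by
  refine hom_ext₃ _ _ fun U f a κ => ?_
  obtain ⟨b, hb⟩ : ∃ r : Γ(X, U), a = sm r := Groth.Agent.Ega2.Tens.exists_sm a
  rw [hb]
  change (mulHom (CohB1.tensorMod F' K) t).app U ((mapT (runit F').hom (𝟙 K)).app U (tmul (tmul f (sm b)) κ)) =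
    (mapT (mapT (𝟙 F') (homOf t)) (𝟙 K)).app U (tmul (tmul f (sm b)) κ)
  rw [mapT_app, mapT_app, mapT_app, mulHom_app]
  have h1 : (runit F').hom.app U (tmul f (sm b)) = b • f := Groth.Agent.Ega2.Tens.runit_hom_tmul b f
  have h2 : (homOf t).app U (sm b) = b • res K le_top t := by
    have h3 : sec (homOf t) U = res K le_top t := sec_homOf t U
    rw [Groth.Agent.Ega2.Tens.sm_eq_smul, Scheme.Modules.Hom.app_smul]
    exact congrArg (b • ·) h3
  rw [h1, h2]
  change tmul (tmul (b • f) κ) (res K le_top t) = tmul (tmul f (b • res K le_top t)) κ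
  rw [smul_tmul, smul_tmul, tmul_smul, smul_tmul, tmul_tmul_comm hK]

theorem mono_left (F' : X.Modules) {K N : X.Modules} (hF' : PicF.IsInvertible F') (ι : N ⟶ K) [Mono ι] :
    Mono (mapT (𝟙 F') ι) := by
  have h1 : Mono (mapT ι (𝟙 F')) := by
    have := Groth.Agent.PerfB.TensInv.preservesFiniteLimits_of_isInvertible hF'
    rw [← Groth.Agent.PerfB.TensExact.tensorRightMod_map_eq]
    exact Functor.map_mono (DCoh.tensorRightMod F') ι
  have h2 : mapT (𝟙 F') ι = (Groth.Agent.Ega2.Tens.swap F' N).hom ≫ mapT ι (𝟙 F') ≫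
      (Groth.Agent.Ega2.Tens.swap K F').hom := by
    refine hom_ext _ _ fun U f n => ?_
    simp [Groth.Agent.Ega2.Tens.swap]
  rw [h2]
  infer_instance

variable [IsIntegral X]

theorem not_isZero {L : X.Modules} (hL : PicF.IsInvertible L) : ¬ IsZero L := by
  intro h
  obtain ⟨U, e, hxU, he⟩ := (isInvertible_iff L).1 hL (genericPoint X)
  have h0 : e = 0 := by
    have h1 : (𝟙 L : L ⟶ L) = 0 := h.eq_of_src _ _
    have h2 := congr(($h1).app U e)
    exact h2
  have h2 : (1 : Γ(X, U)) = 0 := by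
    apply (he.bijective).injective
    change (1 : Γ(X, U)) • e = (0 : Γ(X, U)) • e
    rw [h0, smul_zero, smul_zero]
  have : Nonempty U := ⟨⟨_, hxU⟩⟩
  exact one_ne_zero h2

omit [IsIntegral X] in
theorem isTors_of_mono {G T : X.Modules} (φ : G ⟶ T) [Mono φ] (hT : IsTors T) : IsTors G := by
  intro U s hU
  obtain ⟨V, hV, hVne, h⟩ := hT U (φ.app U s) hU
  refine ⟨V, hV, hVne, ?_⟩
  apply Groth.Agent.CohqB.QC4.app_injective_of_mono φ V
  rw [map_zero]
  exact (app_res φ hV s).trans h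

section

omit [IsIntegral X] in
theorem mapA_zero' (k : Type u) [Field k] [X.Over (Spec (CommRingCat.of k))] (M N : X.Modules) (n : ℕ)
    (x : Coh.HH X M n) : mapA k (0 : M ⟶ N) n x = 0 := by
  have h1 : mapA k ((0 : M ⟶ N) + 0) n x = mapA k (0 : M ⟶ N) n x + mapA k (0 : M ⟶ N) n x :=
    congr($(mapΓ_add (0 : M ⟶ N) 0 n) x)
  rw [add_zero] at h1
  exact left_eq_add.1 h1

variable (k : Type u) [Field k] [X.Over (Spec (CommRingCat.of k))] [IsNoetherian X]
  (hd : topologicalKrullDim X ≤ 1)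

include hd in
/-- `H^0` is exact at the target of a morphism out of a torsion module. -/
theorem tors_exact {T S : X.Modules} (hT : IsTors T) (τ : T ⟶ S) (z : Coh.HH X S 0)
    (hz : mapA k (cokernel.π τ) 0 z = 0) : ∃ y : Coh.HH X T 0, mapA k τ 0 y = z := by
  have hS₂ := Groth.Agent.VarietyA.StalkCrit.shortExact_kernel (cokernel.π τ)
  obtain ⟨w, hw⟩ := (exactA₂ k _ hS₂ 0 z).1 hz
  have hS₁ := Groth.Agent.VarietyA.StalkCrit.shortExact_kernel (Abelian.factorThruImage τ)
  have h1 : IsTors (kernel (Abelian.factorThruImage τ)) := isTors_of_mono (kernel.ι _) hT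
  have h2 := h1.subsingleton_HH hd 0
  obtain ⟨y, hy⟩ := (exactA₃ k _ hS₁ 0 1 rfl w).1 (Subsingleton.elim _ _)
  refine ⟨y, ?_⟩
  have h3 : τ = Abelian.factorThruImage τ ≫ kernel.ι (cokernel.π τ) := (Abelian.image.fac τ).symm
  conv_lhs => rw [h3]
  rw [mapA_comp, LinearMap.comp_apply, ← hw]
  exact congrArg _ hy

end

section LinAlg

variable {k : Type*} [Field k] {A B V W : Type*} [AddCommGroup A] [Module k A] [AddCommGroup B] [Module k B]
  [AddCommGroup V] [Module k V] [AddCommGroup W] [Module k W]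

theorem exists_extend_of_ker (f : V →ₗ[k] W) (φ : V →ₗ[k] k) (h : ∀ v, f v = 0 → φ v = 0) :
    ∃ ψ : W →ₗ[k] k, ∀ v, ψ (f v) = φ v := by
  have h1 : φ ∈ LinearMap.range f.dualMap := by
    rw [LinearMap.range_dualMap_eq_dualAnnihilator_ker, Submodule.mem_dualAnnihilator]
    exact fun v hv => h v hv
  obtain ⟨ψ, hψ⟩ := h1
  exact ⟨ψ, fun v => congr($hψ v)⟩

theorem ker_bound (Φ : A →ₗ[k] B →ₗ[k] k) (R : Submodule k B) (h : ∀ a, ∀ b ∈ R, Φ a b = 0)
    [Module.Finite k A] [Module.Finite k B] :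
    Module.finrank k A + Module.finrank k R ≤ Module.finrank k (LinearMap.ker Φ) + Module.finrank k B := by
  have h1 := Φ.finrank_range_add_finrank_ker
  have h2 : Module.finrank k R + Module.finrank k R.dualAnnihilator = Module.finrank k B :=
    Subspace.finrank_add_finrank_dualAnnihilator_eq R
  have h3 : LinearMap.range Φ ≤ R.dualAnnihilator := by
    rintro _ ⟨a, rfl⟩
    rw [Submodule.mem_dualAnnihilator]
    exact h a
  have h4 : Module.finrank k (LinearMap.range Φ) ≤ Module.finrank k R.dualAnnihilator :=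
    Submodule.finrank_mono h3
  omega

theorem finite_of_exact (f : A →ₗ[k] B) (g : B →ₗ[k] V) (hfg : Function.Exact f g) [Module.Finite k A]
    [Module.Finite k V] : Module.Finite k B := by
  have h1 : Module.Finite k (LinearMap.ker g) := by
    rw [hfg.linearMap_ker_eq]
    infer_instance
  have h2 : Module.Finite k (B ⧸ LinearMap.ker g) := Module.Finite.equiv g.quotKerEquivRange.symm
  exact Module.Finite.of_submodule_quotient (LinearMap.ker g)

end LinAlg

section Bound

variable (k : Type u) [Field k] [X.Over (Spec (CommRingCat.of k))]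
  {F' K : X.Modules}

/-- `φ` kills the image of `H^0((F' ⊗ N) ⊗ K)`. -/
def Good (φ : Coh.HH X (CohB1.tensorMod (CohB1.tensorMod F' K) K) 0 →ₗ[k] k) {N : X.Modules} (ι : N ⟶ K) : Prop :=
  ∀ x : Coh.HH X (CohB1.tensorMod (CohB1.tensorMod F' N) K) 0,
    φ (mapA k (mapT (mapT (𝟙 F') ι) (𝟙 K)) 0 x) = 0

/-- `φ` kills all products. -/
def Kills (φ : Coh.HH X (CohB1.tensorMod (CohB1.tensorMod F' K) K) 0 →ₗ[k] k) : Prop :=
  ∀ (t : Coh.HH X K 0) (f : Coh.HH X (CohB1.tensorMod F' K) 0), φ (mulL k (CohB1.tensorMod F' K) K 0 t f) = 0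

theorem good_unit (hK : PicF.IsInvertible K)
    (φ : Coh.HH X (CohB1.tensorMod (CohB1.tensorMod F' K) K) 0 →ₗ[k] k) (hφ : Kills k φ) (t : Γ(K, ⊤)) :
    Good k φ (homOf t) := by
  intro x
  rw [← unit_comm F' hK t, mapA_comp, LinearMap.comp_apply]
  have h1 := hφ ((equivAdd K).symm t) (mapA k (mapT (runit F').hom (𝟙 K)) 0 x)
  rw [mulL_apply, AddEquiv.apply_symm_apply] at h1
  exact h1

variable [IsNoetherian X] (hd : topologicalKrullDim X ≤ 1)

include hd in
theorem bound (hF' : PicF.IsInvertible F') (hK : PicF.IsInvertible K) {N : X.Modules} (hN : PicF.IsInvertible N)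
    (ι : N ⟶ K) [Mono ι]
    (φ : Coh.HH X (CohB1.tensorMod (CohB1.tensorMod F' K) K) 0 →ₗ[k] k) (hφ : Kills k φ)
    (hg : Good k φ ι) [Module.Finite k (Coh.HH X K 0)] [Module.Finite k (Coh.HH X (CohB1.tensorMod F' K) 0)]
    [Module.Finite k (Coh.HH X (CohB1.tensorMod F' N) 0)] [Module.Finite k (Coh.HH X (CohB1.tensorMod F' N) 1)] :
    ∃ W : Submodule k (Coh.HH X K 0),
      Module.finrank k (Coh.HH X K 0) + Module.finrank k (Coh.HH X (CohB1.tensorMod F' K) 1) ≤
        Module.finrank k W + Module.finrank k (Coh.HH X (CohB1.tensorMod F' N) 1) ∧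
      ∀ t ∈ W, ∀ (N' : X.Modules) (ι' : N' ⟶ K) (i : N ⟶ N') (t' : Γ(N', ⊤)), i ≫ ι' = ι →
        ι'.app ⊤ t' = equivAdd K t →
        (∀ (U : X.Opens) (n : Γ(N', U)) (x : X), x ∈ U → ∃ (W : X.Opens) (h : W ≤ U), x ∈ W ∧
          ∃ (m : Γ(N, W)) (a : Γ(X, W)), res N' h n = i.app W m + a • res N' le_top t') → Good k φ ι' := by
  have hjm := mono_left F' hF' ι
  let j : CohB1.tensorMod F' N ⟶ CohB1.tensorMod F' K := mapT (𝟙 F') ι
  have hj : Mono j := hjm
  have hj0 : j ≠ 0 := by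
    intro h0
    apply not_isZero (isInvertible_tensorMod hF' hN)
    rw [IsZero.iff_id_eq_zero, ← cancel_mono j, h0, comp_zero, comp_zero]
  let T := cokernel j
  let π : CohB1.tensorMod F' K ⟶ T := cokernel.π j
  have hS := Groth.Agent.VarietyA.StalkCrit.shortExact_cokernel j
  have hT : IsTors T := isTors_of_epi (locEmb_of_isInvertible (isInvertible_tensorMod hF' hK)) j hj0 π
    (cokernel.condition j)
  -- finiteness of `H^0(T)`
  have hfinT : Module.Finite k (Coh.HH X T 0) :=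
    finite_of_exact _ _ (exactA₃ k _ hS 0 1 rfl)
  have hT1 : Subsingleton (Coh.HH X T 1) := hT.subsingleton_HH hd 0
  have hcount := Groth.Agent.CurvesB.CurveRR.finrank_of_shortExact k _ hS hT1
  -- the tensored sequence
  have hSK := shortExact_mapT hK hS
  obtain ⟨ψ, hψ⟩ := exists_extend_of_ker (mapA k (mapT π (𝟙 K)) 0) φ (fun v hv => by
    obtain ⟨w, rfl⟩ := (exactA₂ k _ hSK 0 v).1 hv
    exact hg w)
  let Φ : Coh.HH X K 0 →ₗ[k] Coh.HH X T 0 →ₗ[k] k := (mulL k T K 0).compr₂ ψ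
  have hΦ : ∀ t y, Φ t y = ψ (mapA k (mulHom T (equivAdd K t)) 0 y) := fun t y => rfl
  let R := LinearMap.range (mapA k π 0)
  have hR : ∀ t, ∀ y ∈ R, Φ t y = 0 := by
    rintro t _ ⟨f, rfl⟩
    have h1 : mapA k (mulHom T (equivAdd K t)) 0 (mapA k π 0 f) = mapA k (mapT π (𝟙 K)) 0
        (mapA k (mulHom (CohB1.tensorMod F' K) (equivAdd K t)) 0 f) := by
      rw [← LinearMap.comp_apply, ← mapA_comp, ← mulHom_nat, mapA_comp, LinearMap.comp_apply]
    rw [hΦ, h1, hψ]
    exact hφ t f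
  have hb := ker_bound Φ R hR
  have hR2 : Module.finrank k R + Module.finrank k (Coh.HH X (CohB1.tensorMod F' N) 0) =
      Module.finrank k (Coh.HH X (CohB1.tensorMod F' K) 0) := by
    have h1 := (mapA k π 0).finrank_range_add_finrank_ker
    rw [(exactA₂ k _ hS 0).linearMap_ker_eq, LinearMap.finrank_range_of_inj (injectiveA₀ k _ hS)] at h1
    exact h1
  refine ⟨LinearMap.ker Φ, ?_, ?_⟩
  · change Module.finrank k (Coh.HH X (CohB1.tensorMod F' N) 0) + Module.finrank k (Coh.HH X T 0) +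
      Module.finrank k (Coh.HH X (CohB1.tensorMod F' K) 1) = Module.finrank k (Coh.HH X (CohB1.tensorMod F' K) 0) +
      Module.finrank k (Coh.HH X (CohB1.tensorMod F' N) 1) at hcount
    omega
  · intro t ht N' ι' i t' hi ht' hloc x
    let q := cokernel.π (mulHom T (equivAdd K t))
    have hq : mulHom T (equivAdd K t) ≫ q = 0 := cokernel.condition _
    have claim : mapT (mapT (𝟙 F') ι') (𝟙 K) ≫ mapT π (𝟙 K) ≫ q = 0 := by
      refine hom_ext₃ _ _ fun U f n κ => ?_
      refine (show _ = (0 : Γ(cokernel (mulHom T (equivAdd K t)), U)) from ?_)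
      change q.app U ((mapT π (𝟙 K)).app U ((mapT (mapT (𝟙 F') ι') (𝟙 K)).app U (tmul (tmul f n) κ))) = 0
      rw [mapT_app, mapT_app, mapT_app]
      change q.app U (tmul (π.app U (tmul f (ι'.app U n))) κ) = 0
      choose! V hV hxV m a hma using hloc U n
      refine res_ext _ (fun x : U => V x.1) (fun x => hV x.1 x.2)
        (fun x hx => Opens.mem_iSup.mpr ⟨⟨x, hx⟩, hxV x hx⟩) fun x => ?_
      rw [map_zero, ← app_res, res_tmul, ← app_res, res_tmul, ← app_res, hma x.1 x.2, map_add,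
        Scheme.Modules.Hom.app_smul, app_res, ht', tmul_add, map_add, add_tmul, map_add, tmul_smul,
        Scheme.Modules.Hom.app_smul, smul_tmul, Scheme.Modules.Hom.app_smul]
      have e1 : π.app (V x.1) (tmul (res F' (hV x.1 x.2) f) (ι'.app (V x.1) (i.app (V x.1) (m x.1)))) = 0 := by
        have h1 : ι'.app (V x.1) (i.app (V x.1) (m x.1)) = ι.app (V x.1) (m x.1) := congr(($hi).app _ _)
        rw [h1]
        have h2 := mapT_app (𝟙 F') ι (res F' (hV x.1 x.2) f) (m x.1)
        refine (congrArg (π.app (V x.1)) h2.symm).trans ?_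
        have h3 : j ≫ π = 0 := cokernel.condition j
        exact congr(($h3).app (V x.1) (tmul (res F' (hV x.1 x.2) f) (m x.1)))
      have e2 : q.app (V x.1) (tmul (π.app (V x.1) (tmul (res F' (hV x.1 x.2) f)
          (res K le_top (equivAdd K t)))) (res K (hV x.1 x.2) κ)) = 0 := by
        have h1 := mapT_app π (𝟙 K) (tmul (res F' (hV x.1 x.2) f) (res K le_top (equivAdd K t)))
          (res K (hV x.1 x.2) κ)
        have h2 := mapT_app π (𝟙 K) (tmul (res F' (hV x.1 x.2) f) (res K (hV x.1 x.2) κ))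
          (res K le_top (equivAdd K t))
        rw [tmul_tmul_comm hK] at h1
        have h3 := h1.symm.trans h2
        refine (congrArg (q.app (V x.1)) h3).trans ?_
        exact congr(($hq).app (V x.1) (π.app (V x.1) (tmul (res F' (hV x.1 x.2) f) (res K (hV x.1 x.2) κ))))
      rw [e1, e2, smul_zero, Groth.Agent.Ega2.TensGen.zero_tmul, map_zero, add_zero]
    obtain ⟨y, hy⟩ := tors_exact k hd hT (mulHom T (equivAdd K t))
      (mapA k (mapT π (𝟙 K)) 0 (mapA k (mapT (mapT (𝟙 F') ι') (𝟙 K)) 0 x)) (by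
        rw [← LinearMap.comp_apply, ← LinearMap.comp_apply, ← mapA_comp, ← mapA_comp, claim]
        exact mapA_zero' k _ _ 0 x)
    rw [← hψ, ← hy]
    exact LinearMap.congr_fun (show Φ t = 0 from ht) y

end Bound

end K328.NoetherGood
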