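import Groth.Agent.Curves.K324.NodeNorm
import Groth.Agent.Ega1.ClosedUnit
import Groth.Agent.S2260

/-!
# Points where a finite birational morphism is a local isomorphism

* `GoodPt ν y`: `y` is the only point over `ν y` and `O_{X, ν y} → O_{X', y}` is bijective;
* `goodPt_of_mem`: over an open where `ν` is an isomorphism; `exists_goodPt_of_normal`: over the normal points of `X`
  (`ν` finite, an isomorphism over a dense open with dense preimage, `X'` normal);
* `pushAdd_bijective`, `canAdd_bijective`.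
-/

set_option autoImplicit false
universe u

open CategoryTheory CategoryTheory.Limits AlgebraicGeometry TopologicalSpace Opposite IsLocalRing

namespace K328.NormPt

open K324.NodeAlg K324.NodeNorm Groth.Agent.Fdesc.PullbackStalk Groth.Agent.Fdesc.Skyscraper Groth.Agent.Ega1
open Groth.Agent

variable {X X' : Scheme.{u}} {ν : X' ⟶ X} {U : X.Opens}

/-- `y` is the only point over `ν y` and the map on local rings is bijective. -/
structure GoodPt (ν : X' ⟶ X) (y : X') : Prop where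
  uniq : ∀ y' : X', ν y' = ν y → y' = y
  bij : Function.Bijective (ν.stalkMap y)

theorem goodPt_of_mem (hν : IsIso (ν ∣_ U)) (y : X') (hy : ν y ∈ U) : GoodPt ν y := by
  refine ⟨fun y' hy' => ?_, bijective_stalkMap hν y hy⟩
  have hy'U : ν y' ∈ U := by rw [hy']; exact hy
  have h1 : Function.Injective (ν ∣_ U) := (ν ∣_ U).isOpenEmbedding.injective
  have h2 : (⟨y', hy'U⟩ : ν ⁻¹ᵁ U) = ⟨y, hy⟩ := by
    apply h1
    apply Subtype.ext
    have e1 := morphismRestrict_base_coe ν U ⟨y', hy'U⟩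
    have e2 := morphismRestrict_base_coe ν U ⟨y, hy⟩
    exact e1.trans (hy'.trans e2.symm)
  exact congrArg Subtype.val h2

theorem GoodPt.exists_nhd (hc : IsClosedMap ν) {y : X'} (h : GoodPt ν y) (V : X'.Opens) (hy : y ∈ V) :
    ∃ W : X.Opens, ν y ∈ W ∧ ν ⁻¹ᵁ W ≤ V := by
  refine ⟨⟨(ν '' (V : Set X')ᶜ)ᶜ, (hc _ V.isOpen.isClosed_compl).isOpen_compl⟩, ?_, ?_⟩
  · rintro ⟨y', hy', he⟩
    rw [h.uniq y' he] at hy'
    exact hy' hy
  · intro z hz
    by_contra hcon
    exact hz ⟨z, hcon, rfl⟩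

/-! ### stalks of pushforwards and of the unit -/

theorem pushAdd_bijective (hc : IsClosedMap ν) {y : X'} (h : GoodPt ν y) (N : X'.Modules) :
    Function.Bijective (pushAdd ν N y) := by
  constructor
  · rw [injective_iff_map_eq_zero]
    intro t ht
    obtain ⟨U, hU, s, rfl⟩ := TopCat.Presheaf.exists_germ_eq ((Scheme.Modules.pushforward ν).obj N).presheaf t
    have h1 := (pushAdd_germ ν N y U hU s).symm.trans ht
    obtain ⟨W, hW, i, e⟩ := ModGerm.germ_eq_zero N (U := ν ⁻¹ᵁ U) hU s h1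
    obtain ⟨U', hyU', hU'⟩ := h.exists_nhd hc W hW
    have e2 : N.presheaf.map (homOfLE (show ν ⁻¹ᵁ (U ⊓ U') ≤ ν ⁻¹ᵁ U from fun _ h => h.1)).op s = 0 := by
      have h3 := congrArg (N.presheaf.map (homOfLE
        (show ν ⁻¹ᵁ (U ⊓ U') ≤ W from fun _ h => hU' h.2)).op) e
      rw [map_zero] at h3
      rw [← h3]
      exact (ModGerm.res_res N i _ s).symm
    have h4 := ModGerm.germ_res ((Scheme.Modules.pushforward ν).obj N)
      (show U ⊓ U' ≤ U from inf_le_left) (x := ν.base y) ⟨hU, hyU'⟩ s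
    refine h4.symm.trans ?_
    have e3 : ((Scheme.Modules.pushforward ν).obj N).presheaf.map
        (homOfLE (show U ⊓ U' ≤ U from inf_le_left)).op s = 0 := e2
    rw [e3, map_zero]
  · intro n
    obtain ⟨V, hV, s, rfl⟩ := TopCat.Presheaf.exists_germ_eq N.presheaf n
    obtain ⟨U', hyU', hU'⟩ := h.exists_nhd hc V hV
    refine ⟨((Scheme.Modules.pushforward ν).obj N).presheaf.germ U' (ν.base y) hyU'
      (N.presheaf.map (homOfLE hU').op s), ?_⟩
    rw [pushAdd_germ ν N y U' hyU' _]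
    exact ModGerm.germ_res N hU' hyU' s

theorem canAdd_bijective {y : X'} (h : GoodPt ν y) (M : X.Modules) : Function.Bijective (canAdd ν M y) :=
  ⟨ClosedUnit.canAdd_injective ν M y h.bij.2 (fun a ha t => by
    have : a = 0 := h.bij.1 (ha.trans (map_zero (ν.stalkMap y).hom).symm)
    rw [this, zero_smul]), ClosedUnit.canAdd_surjective ν M y h.bij.2⟩

/-! ### normal points -/

section Normal

variable [IsReduced X] [IsLocallyNoetherian X] [IsFinite ν] (hX' : ∀ w : X', IsDomain (X'.presheaf.stalk w))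
  (hU : Dense (U : Set X)) (hU' : Dense ((ν ⁻¹ᵁ U : X'.Opens) : Set X')) (hν : IsIso (ν ∣_ U))

include hX' hU hU' hν in
/-- Near a normal point functions on the normalization descend. -/
theorem exists_descend_of_normal {x : X} [IsDomain (X.presheaf.stalk x)] [IsIntegrallyClosed (X.presheaf.stalk x)]
    {V : X.Opens} (hV : IsAffineOpen V) (hx : x ∈ V) (b : Γ(X', ν ⁻¹ᵁ V)) :
    ∃ (V' : X.Opens) (hV' : V' ≤ V) (_ : x ∈ V') (r : Γ(X, V')),
      X'.presheaf.map (homOfLE (ν.preimage_mono hV')).op b = ν.app V' r := by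
  obtain ⟨s, a, hs, hsb⟩ := exists_den hU hν hV b
  have h1 := intPair_germ hU hν hV hsb x hx
  have h2 : X.presheaf.germ V x hx s ≠ 0 :=
    nonZeroDivisors.ne_zero (germ_mem_nonZeroDivisors hV hs x hx)
  obtain ⟨σ, hσ⟩ := IntPair.exists_of_isIntegrallyClosed h2 h1
  obtain ⟨V', hV', hx', r, hr, -⟩ := exists_descend hX' hU' hν hV hs hsb x hx σ hσ
  exact ⟨V', hV', hx', r, hr⟩

include hX' hU hU' hν in
theorem uniq_of_normal {x : X} [IsDomain (X.presheaf.stalk x)] [IsIntegrallyClosed (X.presheaf.stalk x)]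
    {y y' : X'} (hy : ν y = x) (hy' : ν y' = x) : y' = y := by
  subst hy
  obtain ⟨V, hV, hxV, -⟩ := exists_isAffineOpen_mem_and_subset (X := X) (U := ⊤) (x := ν y) trivial
  have hyV : y ∈ ν ⁻¹ᵁ V := hxV
  have hyV' : y' ∈ ν ⁻¹ᵁ V := by
    change ν y' ∈ V
    rw [hy']; exact hxV
  by_contra hne
  -- a function separating the points
  obtain ⟨b, hb⟩ : ∃ b : Γ(X', ν ⁻¹ᵁ V), ¬ (y ∈ X'.basicOpen b ↔ y' ∈ X'.basicOpen b) := by
    by_contra hcon
    push Not at hcon
    apply hne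
    have hW := hV.preimage ν
    have h1 : hW.primeIdealOf ⟨y', hyV'⟩ = hW.primeIdealOf ⟨y, hyV⟩ := by
      apply PrimeSpectrum.ext
      ext b
      have e : ∀ (z : X') (hz : z ∈ ν ⁻¹ᵁ V), b ∈ (hW.primeIdealOf ⟨z, hz⟩).asIdeal ↔ z ∉ X'.basicOpen b := by
        intro z hz
        have h2 := hW.fromSpec_preimage_basicOpen b
        have h3 : hW.fromSpec (hW.primeIdealOf ⟨z, hz⟩) = z := hW.fromSpec_primeIdealOf ⟨z, hz⟩
        have h4 : hW.primeIdealOf ⟨z, hz⟩ ∈ hW.fromSpec ⁻¹ᵁ X'.basicOpen b ↔ z ∈ X'.basicOpen b := by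
          change hW.fromSpec (hW.primeIdealOf ⟨z, hz⟩) ∈ X'.basicOpen b ↔ _
          rw [h3]
        rw [h2] at h4
        rw [← h4]
        exact not_not.symm
      rw [e, e, hcon b]
    have h2 := congrArg hW.fromSpec h1
    rw [hW.fromSpec_primeIdealOf, hW.fromSpec_primeIdealOf] at h2
    exact h2
  obtain ⟨V', hV', hx', r, hr⟩ := exists_descend_of_normal hX' hU hU' hν hV hxV b
  apply hb
  have key : ∀ (z : X') (_ : ν z = ν y), (z ∈ X'.basicOpen b ↔ ν y ∈ X.basicOpen r) := by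
    intro z hz
    have hzV' : z ∈ ν ⁻¹ᵁ V' := by change ν z ∈ V'; rw [hz]; exact hx'
    have h1 : z ∈ X'.basicOpen (ν.app V' r) ↔ ν z ∈ X.basicOpen r := by
      rw [← Scheme.preimage_basicOpen]
      rfl
    rw [← hr, Scheme.basicOpen_res] at h1
    rw [hz] at h1
    rw [← h1]
    exact ⟨fun h => ⟨hzV', h⟩, fun h => h.2⟩
  rw [key y rfl, key y' hy']

omit [IsReduced X] in
/-- Over a point with integral local ring there is an affine neighbourhood with integral sections. -/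
theorem exists_affine_domain (x : X) [IsDomain (X.presheaf.stalk x)] (W : X.Opens) (hxW : x ∈ W) :
    ∃ V : X.Opens, IsAffineOpen V ∧ x ∈ V ∧ V ≤ W ∧ IsDomain Γ(X, V) := by
  obtain ⟨U₁, hxU₁, hU₁⟩ := Groth.Agent.S2260.result X x
  obtain ⟨V, hV, hxV, hle⟩ := exists_isAffineOpen_mem_and_subset (X := X) (U := W ⊓ U₁) (x := x) ⟨hxW, hxU₁⟩
  have hleU : V ≤ U₁ := fun z hz => (hle hz).2
  have : Nonempty (V : Scheme.{u}) := ⟨⟨x, hxV⟩⟩
  have h1 : IsIntegral (V : Scheme.{u}) := isIntegral_of_isOpenImmersion (X.homOfLE hleU)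
  have h2 : IsDomain Γ((V : Scheme.{u}), ⊤) := inferInstance
  exact ⟨V, hV, hxV, fun z hz => (hle hz).1, V.topIso.commRingCatIsoToRingEquiv.symm.injective.isDomain
    V.topIso.commRingCatIsoToRingEquiv.symm.toRingHom⟩

omit [IsReduced X] [IsFinite ν] in
include hU' hν in
theorem injective_stalkMap_of_isDomain (y : X') [IsDomain (X.presheaf.stalk (ν y))] :
    Function.Injective (ν.stalkMap y) := by
  refine (injective_iff_map_eq_zero (ν.stalkMap y).hom).2 fun a ha => ?_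
  by_contra hne
  obtain ⟨V₀, hV₀, s₀, rfl⟩ := TopCat.Presheaf.exists_germ_eq X.presheaf a
  obtain ⟨V, hV, hxV, hle, hdom⟩ := exists_affine_domain (ν y) V₀ hV₀
  have h1 : X.presheaf.germ V (ν y) hxV (X.presheaf.map (homOfLE hle).op s₀) = X.presheaf.germ V₀ (ν y) hV₀ s₀ :=
    germ_res hle _ hxV s₀
  have hs : X.presheaf.map (homOfLE hle).op s₀ ≠ 0 := by
    intro h0
    rw [h0, map_zero] at h1
    exact hne h1.symm
  apply germ_app_ne_zero hU' hν hV (mem_nonZeroDivisors_of_ne_zero hs) y hxV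
  rw [germ_app, h1]
  exact ha

include hX' hU hU' hν in
theorem surjective_stalkMap_of_normal (y : X') [IsDomain (X.presheaf.stalk (ν y))]
    [IsIntegrallyClosed (X.presheaf.stalk (ν y))] : Function.Surjective (ν.stalkMap y) := by
  intro τ
  obtain ⟨V, hV, hxV, -⟩ := exists_isAffineOpen_mem_and_subset (X := X) (U := ⊤) (x := ν y) trivial
  have hyV : y ∈ ν ⁻¹ᵁ V := hxV
  have hW := hV.preimage ν
  let _ := X'.presheaf.algebra_section_stalk ⟨y, hyV⟩
  have hloc : IsLocalization.AtPrime (X'.presheaf.stalk y) (hW.primeIdealOf ⟨y, hyV⟩).asIdeal :=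
    hW.isLocalization_stalk ⟨y, hyV⟩
  obtain ⟨⟨b, c⟩, hbc⟩ := IsLocalization.surj (hW.primeIdealOf ⟨y, hyV⟩).asIdeal.primeCompl τ
  have hcu : IsUnit (X'.presheaf.germ (ν ⁻¹ᵁ V) y hyV c.1) :=
    IsLocalization.map_units (X'.presheaf.stalk y) c
  have hbc' : τ * X'.presheaf.germ (ν ⁻¹ᵁ V) y hyV c.1 = X'.presheaf.germ (ν ⁻¹ᵁ V) y hyV b := hbc
  obtain ⟨V₁, hV₁, hx₁, r₁, hr₁⟩ := exists_descend_of_normal hX' hU hU' hν hV hxV b
  obtain ⟨V₂, hV₂, hx₂, r₂, hr₂⟩ := exists_descend_of_normal hX' hU hU' hν hV hxV c.1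
  have e1 : ν.stalkMap y (X.presheaf.germ V₁ (ν y) hx₁ r₁) = X'.presheaf.germ (ν ⁻¹ᵁ V) y hyV b := by
    rw [← germ_app y hx₁, ← hr₁]
    exact germ_res _ y hx₁ b
  have e2 : ν.stalkMap y (X.presheaf.germ V₂ (ν y) hx₂ r₂) = X'.presheaf.germ (ν ⁻¹ᵁ V) y hyV c.1 := by
    rw [← germ_app y hx₂, ← hr₂]
    exact germ_res _ y hx₂ c.1
  have hu : IsUnit (X.presheaf.germ V₂ (ν y) hx₂ r₂) := by
    rw [← e2] at hcu
    exact (isUnit_map_iff (ν.stalkMap y).hom _).1 hcu
  obtain ⟨v, hv⟩ := hu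
  refine ⟨X.presheaf.germ V₁ (ν y) hx₁ r₁ * ↑v⁻¹, ?_⟩
  apply hcu.mul_right_cancel
  rw [hbc', ← e1, ← e2, ← map_mul, ← hv, mul_assoc, Units.inv_mul, mul_one]

omit [IsReduced X] [IsLocallyNoetherian X] in
include hU hν in
theorem surjective_of_dense : Function.Surjective ν := by
  have hc : IsClosed (Set.range ν) := ν.isClosedMap.isClosed_range
  have h1 : Dense (Set.range ν) := hU.mono fun x hx => exists_preimage hν x hx
  intro x
  have h2 : Set.range ν = Set.univ := by rw [← hc.closure_eq, h1.closure_eq]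
  have : x ∈ Set.range ν := h2 ▸ Set.mem_univ x
  exact this

include hX' hU hU' hν in
theorem exists_goodPt_of_normal (x : X) [IsDomain (X.presheaf.stalk x)] [IsIntegrallyClosed (X.presheaf.stalk x)] :
    ∃ y : X', ν y = x ∧ GoodPt ν y := by
  obtain ⟨y, rfl⟩ := surjective_of_dense hU hν x
  exact ⟨y, rfl, fun y' hy' => uniq_of_normal hX' hU hU' hν rfl hy',
    injective_stalkMap_of_isDomain hU' hν y, surjective_stalkMap_of_normal hX' hU hU' hν y⟩

end Normal

end K328.NormPt
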