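import Groth.Agent.Curves.K324.NodeNorm
import Groth.Agent.CohqA.AssInj
import Groth.Agent.Ega1.SubSheaf
import Groth.Agent.Ega1.ModGerm
import Groth.Agent.CurvesB.GenStalk
import Groth.Agent.CurvesB.DimPts
import Groth.Agent.PerfA.CohSerre
import Groth.Agent.Ega3B.DevQC
import Groth.Agent.Divis.StalkMod
import Groth.Agent.FormalA.PullbackQC
import Groth.Agent.VarietyA.StalkCrit
import Groth.Prelude.Def_Pi1
import Groth.Agent.Curves.K328.NormPt

/-!
# The torsion-free quotient on a reduced locally Noetherian scheme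

* `tsub E`: the submodule of `E` of the sections with zero germs at all generic points; it is coherent if `E` is;
* `isTorsionFree_stalk_cokernel`: the stalks of `E / tsub E` at the points with integral local rings are torsion free;
* `isFinLocFree_cokernel`: on a normal scheme of dimension at most one `E / tsub E` is finite locally free.
-/

set_option autoImplicit false
universe u

open CategoryTheory CategoryTheory.Limits AlgebraicGeometry TopologicalSpace Opposite

namespace K328.TorsQuot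

open Groth.Agent.CycB.StalkExact
open Groth.Agent.Ega1 Groth.Agent.Ega1.ModGerm
open Groth.Agent.CurvesB.SubH1 (IsGen)
open Groth.Agent.CurvesB.GenStalk

variable {X : Scheme.{u}}

/-- The sections of `E` whose germs at the generic points vanish. -/
noncomputable def tsub (E : X.Modules) : SubSheaf.Sub E where
  obj U :=
    { carrier := {s | ∀ (ξ : X) (hξ : ξ ∈ U), IsGen ξ → germ E U ξ hξ s = 0}
      add_mem' := by
        intro a b ha hb ξ hξ hg
        rw [map_add, ha ξ hξ hg, hb ξ hξ hg, add_zero]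
      zero_mem' := by
        intro ξ hξ hg
        rw [map_zero]
      smul_mem' := by
        intro r a ha ξ hξ hg
        rw [ModGerm.germ_smul, ha ξ hξ hg, smul_zero] }
  map_mem := by
    intro U V h s hs ξ hξ hg
    have := hs ξ (h hξ) hg
    change germ E V _ hξ (E.presheaf.map (homOfLE h).op s) = 0
    rw [germ_res]
    exact this
  local_mem := by
    intro U s h ξ hξ hg
    obtain ⟨V, hV, hxV, hs⟩ := h ξ hξ
    have := hs ξ hxV hg
    change germ E V _ hxV (E.presheaf.map (homOfLE hV).op s) = 0 at this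
    rw [germ_res] at this
    exact this

variable {E : X.Modules}

theorem mem_tsub {U : X.Opens} (s : Γ(E, U)) :
    s ∈ (tsub E).obj U ↔ ∀ (ξ : X) (hξ : ξ ∈ U), IsGen ξ → germ E U ξ hξ s = 0 := Iff.rfl

theorem isQCoh_tsub [IsReduced X] (hE : Coh.IsQCoh E) : Coh.IsQCoh (tsub E).toModules := by
  refine Groth.Agent.CohqA.AssInj.isQCoh_toModules hE _ fun V hV f s hs => ⟨1, ?_⟩
  rw [pow_one]
  intro ξ hξ hg
  rw [ModGerm.germ_smul]
  by_cases hf : ξ ∈ X.basicOpen f
  · have := hs ξ hf hg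
    change germ E _ _ hf (E.presheaf.map (homOfLE (X.basicOpen_le f)).op s) = 0 at this
    rw [germ_res] at this
    have h2 : germ E V ξ hξ s = 0 := this
    rw [h2, smul_zero]
  · have h1 : X.presheaf.germ V ξ hξ f = 0 := by
      by_contra hne
      obtain ⟨b, hb⟩ := (isField_stalk ξ hg).mul_inv_cancel hne
      exact hf ((X.mem_basicOpen f ξ hξ).mpr (IsUnit.of_mul_eq_one b hb))
    rw [h1, zero_smul]

theorem isCoh_tsub [IsReduced X] [IsLocallyNoetherian X] (hE : Coh.IsCoh E) : Coh.IsCoh (tsub E).toModules :=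
  Groth.Agent.PerfA.CohSerre.isCoh_of_mono (tsub E).ι (isQCoh_tsub hE.1) hE

theorem isCoh_cokernel_tsub [IsReduced X] [IsLocallyNoetherian X] (hE : Coh.IsCoh E) :
    Coh.IsCoh (cokernel (tsub E).ι) :=
  Groth.Agent.Ega3B.DevQC.isCoh_cokernel (tsub E).ι (isCoh_tsub hE).1 hE

/-- The image of the stalk of `tsub E` at `x`. -/
theorem mem_range_stalk_iff {x : X} {U : X.Opens} (hx : x ∈ U) (s : Γ(E, U)) :
    germ E U x hx s ∈ LinearMap.range (stalkLin (tsub E).ι x) ↔
      ∃ (V : X.Opens) (hV : V ≤ U) (_ : x ∈ V), E.presheaf.map (homOfLE hV).op s ∈ (tsub E).obj V := by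
  constructor
  · rintro ⟨t, ht⟩
    obtain ⟨V, hVU, hxV, t, rfl⟩ := ModGerm.exists_germ (M := (tsub E).toModules) t hx
    have h1 : stalkLin (tsub E).ι x (germ _ V x hxV t) = germ E V x hxV ((tsub E).ι.app V t) :=
      stalkLin_germ _ x hxV t
    rw [h1] at ht
    obtain ⟨V', hxV', i, j, h2⟩ := ModGerm.germ_eq E hxV hx _ _ ht
    refine ⟨V', j, hxV', ?_⟩
    have h3 := (tsub E).ι_app_mem t
    have h4 := (tsub E).map_mem i h3
    have h5 : E.presheaf.map (homOfLE i).op ((tsub E).ι.app V t) = E.presheaf.map (homOfLE j).op s := h2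
    rw [← h5]
    exact h4
  · rintro ⟨V, hV, hxV, hs⟩
    have h2 : germ E V x hxV (E.presheaf.map (homOfLE hV).op s) = germ E U x hx s := germ_res E hV hxV s
    rw [← h2]
    refine ⟨germ _ V x hxV ((tsub E).sec (E.presheaf.map (homOfLE hV).op s) hs), ?_⟩
    exact (stalkLin_germ (tsub E).ι x hxV ((tsub E).sec _ hs)).trans (by rw [SubSheaf.Sub.ι_app_sec])

theorem isTorsionFree_stalk_cokernel [IsReduced X] [IsLocallyNoetherian X] (x : X) [IsDomain (X.presheaf.stalk x)] :
    Module.IsTorsionFree (X.presheaf.stalk x) ((cokernel (tsub E).ι).presheaf.stalk x) := by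
  rw [Module.isTorsionFree_iff_smul_eq_zero]
  intro r m hrm
  by_contra hcon
  push Not at hcon
  obtain ⟨hr, hm⟩ := hcon
  apply hm
  have hS := Groth.Agent.VarietyA.StalkCrit.shortExact_cokernel (tsub E).ι
  obtain ⟨-, hex, hsurj⟩ := stalkLin_shortExact _ hS x
  obtain ⟨e, rfl⟩ := hsurj m
  rw [← map_smul] at hrm
  have h1 := (hex (r • e)).1 hrm
  refine (hex e).2 ?_
  obtain ⟨U, -, hxU, s, rfl⟩ := ModGerm.exists_germ (M := E) e (U := ⊤) trivial
  obtain ⟨V, hxV, a, rfl⟩ := X.presheaf.exists_germ_eq r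
  -- restrict to a common neighbourhood
  have hxW : x ∈ U ⊓ V := ⟨hxU, hxV⟩
  have e1 : germ E U x hxU s = germ E (U ⊓ V) x hxW (E.presheaf.map (homOfLE inf_le_left).op s) := by
    rw [germ_res]
  have e2 : X.presheaf.germ V x hxV a = X.presheaf.germ (U ⊓ V) x hxW (X.presheaf.map (homOfLE inf_le_right).op a) := by
    rw [germ_res_ring]
  rw [e1, e2, ← ModGerm.germ_smul] at h1
  rw [e2] at hr
  rw [e1]
  generalize X.presheaf.map (homOfLE (inf_le_right : U ⊓ V ≤ V)).op a = a' at h1 hr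
  generalize E.presheaf.map (homOfLE (inf_le_left : U ⊓ V ≤ U)).op s = s' at h1
  obtain ⟨V₁, hV₁, hxV₁, h2⟩ := (mem_range_stalk_iff hxW _).1 h1
  obtain ⟨V₂, hV₂, hxV₂, hle, hdom⟩ := K328.NormPt.exists_affine_domain x V₁ hxV₁
  refine (mem_range_stalk_iff hxW _).2 ⟨V₂, hle.trans hV₁, hxV₂, ?_⟩
  intro ξ hξ hg
  have hne : X.presheaf.map (homOfLE (hle.trans hV₁)).op a' ≠ 0 := by
    intro h0
    apply hr
    rw [← TopCat.Presheaf.germ_res_apply X.presheaf (homOfLE (hle.trans hV₁)) x hxV₂, h0, map_zero]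
  have h3 : X.presheaf.germ V₂ ξ hξ (X.presheaf.map (homOfLE (hle.trans hV₁)).op a') ≠ 0 :=
    nonZeroDivisors.ne_zero (K324.NodeNorm.germ_mem_nonZeroDivisors hV₂ (mem_nonZeroDivisors_of_ne_zero hne) ξ hξ)
  obtain ⟨b, hb⟩ := (isField_stalk ξ hg).mul_inv_cancel h3
  have hu := IsUnit.of_mul_eq_one b hb
  have h4 := h2 ξ (hle hξ) hg
  have h5 : germ E V₁ ξ (hle hξ) (E.presheaf.map (homOfLE hV₁).op (a' • s')) = germ E (U ⊓ V) ξ (hV₁ (hle hξ)) (a' • s') :=
    germ_res E hV₁ (hle hξ) _
  rw [h5, ModGerm.germ_smul] at h4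
  have h6 : germ E V₂ ξ hξ (E.presheaf.map (homOfLE (hle.trans hV₁)).op s') = germ E (U ⊓ V) ξ (hV₁ (hle hξ)) s' :=
    germ_res E (hle.trans hV₁) hξ _
  rw [h6]
  rw [TopCat.Presheaf.germ_res_apply X.presheaf (homOfLE (hle.trans hV₁)) ξ hξ] at hu
  exact (hu.smul_eq_zero).1 h4

theorem isPrincipalIdealRing_stalk [IsLocallyNoetherian X] (hX : Pi1.IsNormalScheme X)
    (hdim : topologicalKrullDim X ≤ 1) (x : X) : IsPrincipalIdealRing (X.presheaf.stalk x) := by
  have := (hX x).1
  have h1 : Ring.KrullDimLE 1 (X.presheaf.stalk x) := by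
    rw [Ring.krullDimLE_iff]
    exact (Groth.Agent.CurvesB.DimPts.ringKrullDim_stalk_le x).trans hdim
  have h3 : IsIntegrallyClosed (X.presheaf.stalk x) ∧
      ∀ P : Ideal (X.presheaf.stalk x), P ≠ ⊥ → P.IsPrime → P = IsLocalRing.maximalIdeal (X.presheaf.stalk x) := by
    refine ⟨(hX x).2, fun P hP hP' => ?_⟩
    have h2 := Ring.krullDimLE_one_iff_of_noZeroDivisors.1 h1 P hP hP'
    exact IsLocalRing.eq_maximalIdeal h2
  exact ((tfae_of_isNoetherianRing_of_isLocalRing_of_isDomain (X.presheaf.stalk x)).out 3 0).1 h3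

theorem isReduced_of_isNormalScheme (hX : Pi1.IsNormalScheme X) : IsReduced X := by
  have : ∀ x : X, _root_.IsReduced (X.presheaf.stalk x) := fun x => by
    have := (hX x).1
    infer_instance
  exact isReduced_of_isReduced_stalk X

theorem isFinLocFree_cokernel [IsLocallyNoetherian X] (hX : Pi1.IsNormalScheme X)
    (hdim : topologicalKrullDim X ≤ 1) (hE : Coh.IsCoh E) : FlatMod.IsFinLocFree (cokernel (tsub E).ι) := by
  have := isReduced_of_isNormalScheme hX
  have hc := isCoh_cokernel_tsub hE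
  refine Groth.Agent.Divis.StalkMod.isFinLocFree_of_free_stalk hc fun x => ?_
  have h1 := (hX x).1
  have h2 := isPrincipalIdealRing_stalk hX hdim x
  have h3 := isTorsionFree_stalk_cokernel (E := E) x
  have h4 := Groth.Agent.Divis.StalkMod.finite_stalk hc x
  exact Module.free_of_finite_type_torsion_free'

end K328.TorsQuot
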