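import Groth.Agent.Curves.K328.PureTF
import Groth.Agent.Curves.K328.TorsQuot
import Groth.Agent.Pi1B.FlowSmooth
import Groth.Agent.Sga67.ClosedPush

/-!
# The map `F ⟶ π_* (π^* F / torsion)`

* `emb π F`;
* `mono_emb`: it is a monomorphism if `F` is torsion free and `π` is an isomorphism over a dense open subset;
* `subsingleton_stalk_cokernel_emb`: its cokernel vanishes at the points `π y`, `y` a `GoodPt` of `π`.
-/

set_option autoImplicit false
universe u

open CategoryTheory CategoryTheory.Limits AlgebraicGeometry TopologicalSpace Opposite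

namespace K328.NormEmb

open Groth.Agent.CycB.StalkExact Groth.Agent.Fdesc.PullbackStalk Groth.Agent.Fdesc.Skyscraper
open Groth.Agent.Ega1 Groth.Agent.Ega1.ModGerm
open Groth.Agent.CurvesB.SubH1 (IsGen)
open Groth.Agent.CurvesB.GenStalk K328.TorsQuot K328.NormPt

variable {X X' : Scheme.{u}} (π : X' ⟶ X)

/-- The torsion-free part of the pullback. -/
noncomputable abbrev tpull (F : X.Modules) : X'.Modules := cokernel (tsub ((Scheme.Modules.pullback π).obj F)).ι

/-- The map `F ⟶ π_* (π^* F / torsion)`. -/
noncomputable def emb (F : X.Modules) : F ⟶ (Scheme.Modules.pushforward π).obj (tpull π F) :=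
  (Scheme.Modules.pullbackPushforwardAdjunction π).unit.app F ≫
    (Scheme.Modules.pushforward π).map (cokernel.π (tsub ((Scheme.Modules.pullback π).obj F)).ι)

theorem pushAdd_stalkMap_emb (F : X.Modules) (y : X') (t : F.presheaf.stalk (π.base y)) :
    pushAdd π (tpull π F) y (stalkMap (emb π F) (π.base y) t) =
      stalkMap (cokernel.π (tsub ((Scheme.Modules.pullback π).obj F)).ι) y (canAdd π F y t) := by
  have h := congr($(stalkMap_comp ((Scheme.Modules.pullbackPushforwardAdjunction π).unit.app F)
    ((Scheme.Modules.pushforward π).map (cokernel.π (tsub ((Scheme.Modules.pullback π).obj F)).ι)) (π.base y)) t)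
  refine (congrArg (pushAdd π (tpull π F) y) h).trans ?_
  exact Groth.Agent.Sga67.ClosedPush.pushAdd_natural π _ y _

theorem stalkLin_eq {M N : X.Modules} (φ : M ⟶ N) (x : X) (t : M.presheaf.stalk x) :
    stalkLin φ x t = stalkMap φ x t := by
  obtain ⟨U, hU, s, rfl⟩ := TopCat.Presheaf.exists_germ_eq M.presheaf t
  rw [stalkLin_germ, stalkMap_germ]

/-- At a generic point the quotient map to the torsion-free quotient is injective on stalks. -/
theorem stalkMap_π_injective (E : X.Modules) (x : X) (hx : IsGen x) :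
    Function.Injective (stalkMap (cokernel.π (tsub E).ι) x) := by
  rw [injective_iff_map_eq_zero]
  intro t ht
  have hS := Groth.Agent.VarietyA.StalkCrit.shortExact_cokernel (tsub E).ι
  obtain ⟨-, hex, -⟩ := stalkLin_shortExact _ hS x
  obtain ⟨s, hs⟩ := (hex t).1 ((stalkLin_eq _ x t).trans ht)
  obtain ⟨U, hU, s, rfl⟩ := TopCat.Presheaf.exists_germ_eq (tsub E).toModules.presheaf s
  have h1 : stalkLin (tsub E).ι x ((tsub E).toModules.presheaf.germ U x hU s) =
      E.presheaf.germ U x hU ((tsub E).ι.app U s) := stalkLin_germ _ x hU s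
  rw [← hs]
  refine h1.trans ?_
  exact (tsub E).ι_app_mem s x hU hx

variable {π} {U : X.Opens}

theorem isGen_of_goodPt {y : X'} (h : GoodPt π y) (hy : IsGen (π y)) : IsGen y := by
  intro z hz
  exact h.uniq z (hy _ (hz.map π.continuous))

theorem mono_emb [IsLocallyNoetherian X] [IsFinite π] (hU : Dense (U : Set X)) (hπ : IsIso (π ∣_ U))
    {F : X.Modules} (hF : TorsionFree F) : Mono (emb π F) := by
  rw [SubSheaf.mono_iff_injective]
  intro V
  rw [injective_iff_map_eq_zero]
  intro s hs
  refine hF V s fun ξ hξ hg => ?_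
  have hξU : ξ ∈ U := Groth.Agent.Pi1B.FlowSmooth.mem_of_generic ξ hg _ U.2 (hU _)
  obtain ⟨y, rfl⟩ := K324.NodeNorm.exists_preimage hπ ξ hξU
  have hgood : GoodPt π y := goodPt_of_mem hπ y hξU
  apply (canAdd_bijective hgood F).1
  apply stalkMap_π_injective _ y (isGen_of_goodPt hgood hg)
  rw [← pushAdd_stalkMap_emb, stalkMap_germ, hs, map_zero, map_zero, map_zero, map_zero]

theorem subsingleton_stalk_cokernel_emb [IsFinite π] (F : X.Modules) {y : X'} (h : GoodPt π y) :
    Subsingleton ((cokernel (emb π F)).presheaf.stalk (π y)) := by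
  have hsurj : Function.Surjective (stalkMap (emb π F) (π.base y)) := by
    intro b
    have h1 : Function.Surjective (stalkMap (cokernel.π (tsub ((Scheme.Modules.pullback π).obj F)).ι) y) := by
      intro c
      obtain ⟨a, ha⟩ := stalkLin_surjective (cokernel.π (tsub ((Scheme.Modules.pullback π).obj F)).ι) y c
      exact ⟨a, (stalkLin_eq _ y a).symm.trans ha⟩
    obtain ⟨a, ha⟩ := h1 (pushAdd π (tpull π F) y b)
    obtain ⟨c, rfl⟩ := (canAdd_bijective h F).2 a
    refine ⟨c, (pushAdd_bijective π.isClosedMap h (tpull π F)).1 ?_⟩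
    rw [pushAdd_stalkMap_emb]
    exact ha
  have key : ∀ t : (cokernel (emb π F)).presheaf.stalk (π y), t = 0 := by
    intro t
    obtain ⟨b, rfl⟩ := stalkLin_surjective (cokernel.π (emb π F)) (π y) t
    obtain ⟨a, rfl⟩ := hsurj b
    have h2 : stalkLin (cokernel.π (emb π F)) (π y) (stalkLin (emb π F) (π y) a) = 0 := by
      have h3 := congr($(stalkLin_comp (emb π F) (cokernel.π (emb π F)) (π y)) a)
      rw [cokernel.condition] at h3
      refine h3.symm.trans ?_
      obtain ⟨V, hV, s, rfl⟩ := TopCat.Presheaf.exists_germ_eq F.presheaf a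
      rw [stalkLin_germ]
      exact map_zero _
    rw [← stalkLin_eq]
    exact h2
  exact ⟨fun a b => by rw [key a, key b]⟩

end K328.NormEmb
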