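import Groth.Agent.Old.H24.LinearSeries
import Groth.Agent.Grpsch.PicGrp
import Groth.Agent.VarietyA.CurveFin
import Groth.Agent.CurvesA.HHMap
import Groth.Agent.S1518
import Groth.Agent.S1520
import Groth.Agent.Ega2.QCohLocal

/-!
# `h^0`, `h^1` and the degree as functions on the Picard group of a proper curve

* `hh k X i c`: dimension of `H^i` of a class; `dg k X c`: its degree (`Curv2.deg`);
* `rr`: Riemann-Roch in the form `h^0 - h^1 = deg + 1 - g`; `dg_mul`, `dg_inv`, `dg_pow`;
* `eq_one_of_dg_eq_zero`: a class of degree zero with a section is trivial; `dg_nonneg`;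
* `pencil`: the base point free pencil trick `2 h^0(c d) ≤ h^0(c) + h^0(c d^2)` if `d` is given by a pair of
  sections without common zero.
-/

set_option autoImplicit false
universe u
open CategoryTheory CategoryTheory.Limits AlgebraicGeometry Opposite TopologicalSpace
open Groth.Agent.Grpsch.PicGrp Groth.Agent.Fdesc.LocGen Groth.Agent.CurvesB.HZero
open Groth.Agent.VarietyA.EulerLES Groth.Agent.Old.H24.MulHom

namespace K328.PicCalc

variable (k : Type u) [Field k] (X : Scheme.{u}) [X.Over (Spec (CommRingCat.of k))]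

/-- `dim_k H^i` of a class in the Picard group. -/
noncomputable def hh (i : ℕ) (c : Pic X) : ℕ :=
  Quotient.lift (s := isoSetoid X) (fun L => Module.finrank k (Coh.HH X L.1 i))
    (fun _ _ ⟨e⟩ => (Groth.Agent.CurvesA.HHMap.equivOver k e i).finrank_eq) c

theorem hh_mk (i : ℕ) {L : X.Modules} (hL : PicF.IsInvertible L) :
    hh k X i (mk L hL) = Module.finrank k (Coh.HH X L i) := rfl

theorem euler_congr {M N : X.Modules} (e : M ≅ N) : Curv2.euler k X M = Curv2.euler k X N := by
  unfold Curv2.euler
  congr 1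
  funext i
  rw [(Groth.Agent.CurvesA.HHMap.equivOver k e i).finrank_eq]

/-- The degree of a class. -/
noncomputable def dg (c : Pic X) : ℤ :=
  Quotient.lift (s := isoSetoid X) (fun L => Curv2.deg k X L.1 1)
    (fun _ _ ⟨e⟩ => by
      change Curv2.deg k X _ 1 = Curv2.deg k X _ 1
      unfold Curv2.deg
      rw [euler_congr k X e]) c

theorem dg_mk {L : X.Modules} (hL : PicF.IsInvertible L) : dg k X (mk L hL) = Curv2.deg k X L 1 := rfl

theorem dg_one : dg k X 1 = 0 := by
  change Curv2.deg k X (Coh.structureModule X) 1 = 0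
  simp [Curv2.deg]

theorem hh_one (i : ℕ) : hh k X i 1 = Module.finrank k (Coh.HH X (Coh.structureModule X) i) := rfl

/-- A class is given by a pair of sections without common zero. -/
def BPF (c : Pic X) : Prop :=
  ∃ (L : X.Modules) (hL : PicF.IsInvertible L) (s t : Γ(L, ⊤)), Covers s t ∧ c = mk L hL

variable [IsProper (X ↘ (Spec (CommRingCat.of k)))]

theorem finite_HH {L : X.Modules} (hL : PicF.IsInvertible L) (i : ℕ) : Module.Finite k (Coh.HH X L i) :=
  Groth.Agent.Old.H24.LinearSeries.finite_H k hL i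

/-- The base point free pencil trick. -/
theorem pencil (c : Pic X) {d : Pic X} (hd : BPF X d) :
    2 * hh k X 0 (c * d) ≤ hh k X 0 c + hh k X 0 (c * d ^ 2) := by
  obtain ⟨L, hL, s, t, h, rfl⟩ := hd
  induction c using ind with | _ F hF => ?_
  have e2 : mk F hF * mk L hL ^ 2 =
      mk (CohB1.tensorMod (CohB1.tensorMod F L) L) (isInvertible_tensorMod (isInvertible_tensorMod hF hL) hL) := by
    rw [pow_two, ← mul_assoc]; rfl
  rw [e2, mk_mul_mk, hh_mk, hh_mk, hh_mk]
  have f0 := finite_HH k X hF 0
  have f1 := finite_HH k X (isInvertible_tensorMod hF hL) 0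
  have f2 := finite_HH k X (isInvertible_tensorMod (isInvertible_tensorMod hF hL) hL) 0
  have key : ∀ (F : X.Modules) (m : Γ(L, ⊤)) (x : Coh.HH X F 0),
      equivAdd (CohB1.tensorMod F L) (mapA k (mulHom F m) 0 x) = tmul (equivAdd F x) m := by
    intro F m x
    refine (equivAdd_map (mulHom F m) x).trans ?_
    rw [mulHom_app, res_refl]
  refine Groth.Agent.Old.H24.LinAlg.two_mul_le (k := k)
    (mapA k (mulHom F s) 0) (mapA k (mulHom F t) 0)
    (mapA k (mulHom (CohB1.tensorMod F L) t) 0)
    (mapA k (mulHom (CohB1.tensorMod F L) s) 0) fun a b hab => ?_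
  have h1 := congrArg (equivAdd (CohB1.tensorMod (CohB1.tensorMod F L) L)) hab
  have h2 := ((key (CohB1.tensorMod F L) t a).symm.trans h1).trans
    (key (CohB1.tensorMod F L) s b)
  obtain ⟨c, hc1, hc2⟩ := h.exists_eq (F := F) hL _ _ h2
  refine ⟨(equivAdd F).symm c, ?_, ?_⟩
  · apply (equivAdd (CohB1.tensorMod F L)).injective
    refine (key _ _ _).trans ?_
    rw [AddEquiv.apply_symm_apply]
    exact hc1
  · apply (equivAdd (CohB1.tensorMod F L)).injective
    refine (key _ _ _).trans ?_
    rw [AddEquiv.apply_symm_apply]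
    exact hc2

/-- `pencil` in the form with two classes. -/
theorem pencil' (c : Pic X) {d : Pic X} (hd : BPF X d) :
    2 * hh k X 0 c ≤ hh k X 0 (c * d⁻¹) + hh k X 0 (c * d) := by
  have h := pencil k X (c * d⁻¹) hd
  rw [inv_mul_cancel_right, pow_two, ← mul_assoc, inv_mul_cancel_right] at h
  exact h

variable [IsIntegral X] (hdim : topologicalKrullDim X = 1)

include hdim

theorem dg_mul (a b : Pic X) : dg k X (a * b) = dg k X a + dg k X b := by
  induction a using ind with | _ L hL => ?_
  induction b using ind with | _ M hM => ?_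
  exact Groth.Agent.Old.H24.LinearSeries.deg_tensor k hdim.le hL hM

theorem dg_inv (a : Pic X) : dg k X a⁻¹ = - dg k X a := by
  have := dg_mul k X hdim a a⁻¹
  rw [mul_inv_cancel, dg_one] at this
  linarith

theorem dg_pow (a : Pic X) (n : ℕ) : dg k X (a ^ n) = n * dg k X a := by
  induction n with
  | zero => rw [pow_zero, dg_one]; simp
  | succ n ih => rw [pow_succ, dg_mul k X hdim, ih]; push_cast; ring

/-- Riemann-Roch. -/
theorem rr (h0 : hh k X 0 1 = 1) (c : Pic X) :
    (hh k X 0 c : ℤ) - hh k X 1 c = dg k X c + 1 - Curv2.genus k X := by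
  induction c using ind with | _ L hL => ?_
  have := Groth.Agent.CurvesB.CurveRR.isNoetherian_of_proper k X
  have h := Groth.Agent.CurvesB.CurveRR.deg_eq k X hdim.le L
  rw [show Module.finrank k (Coh.HH X (Coh.structureModule X) 0) = 1 from h0] at h
  rw [hh_mk, hh_mk, dg_mk, h]
  push_cast
  ring

/-- A nonzero `h^0` gives a nonzero section. -/
theorem exists_section {L : X.Modules} (hL : PicF.IsInvertible L) (h : 0 < Module.finrank k (Coh.HH X L 0)) :
    ∃ s : Coh.structureModule X ⟶ L, s ≠ 0 := by
  have := Module.nontrivial_of_finrank_pos h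
  obtain ⟨x, hx⟩ := exists_ne (0 : Coh.HH X L 0)
  refine ⟨homOf (equivAdd L x), fun h0 => hx ?_⟩
  apply (equivAdd L).injective
  have h1 := sec_homOf (equivAdd L x) ⊤
  rw [res_refl] at h1
  rw [map_zero, ← h1, h0]
  rfl

theorem dg_nonneg {c : Pic X} (h : 0 < hh k X 0 c) : 0 ≤ dg k X c := by
  induction c using ind with | _ L hL => ?_
  obtain ⟨s, hs⟩ := exists_section k X hdim hL h
  exact Groth.Agent.S1518.result k X hdim L hL s hs

theorem eq_one_of_dg {c : Pic X} (h : 0 < hh k X 0 c) (hd : dg k X c ≤ 0) : c = 1 := by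
  induction c using ind with | _ L hL => ?_
  obtain ⟨s, hs⟩ := exists_section k X hdim hL h
  rw [mk_eq_one_iff]
  exact Groth.Agent.S1520.result k X hdim L hL s hs hd

end K328.PicCalc
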