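import Groth.Agent.CurvesB.VeryAmple
import Groth.Agent.Curves.K319.VA
import Groth.Agent.Curves.K319.PicCD

/-!
# Closed immersion into `P^n` given by a spanning family of `n + 1` sections

`of_separates_span` is `CurvesB.VeryAmple.of_separates` with the spanning family of sections prescribed;
`exists_closedImmersion`: on a regular curve with `h^0(L) = n + 1` and `h^0(L - P - Q) = h^0(L) - 2` for all `P, Q` there
is a closed immersion into `P^n`.
-/

set_option autoImplicit false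
universe u
open CategoryTheory CategoryTheory.Limits AlgebraicGeometry TopologicalSpace Opposite

namespace K328.PlaneEmb

open Groth.Agent Groth.Agent.CurvesC.Gen Groth.Agent.CurvesC.ProjMap Groth.Agent.CurvesC.ProjSpaceBasic
open Groth.Agent.VarietyB Groth.Agent.CurvesB Groth.Agent.CurvesB.VeryAmple

section Main

variable {k K : Type u} [Field k] [Field K] [Algebra k K] {X Y : Scheme.{u}}
  {f : X ⟶ Spec (CommRingCat.of k)} {q : Y ⟶ X} {g : Y ⟶ Spec (CommRingCat.of K)}

/-- Very ampleness from separation, with a prescribed spanning family of sections. -/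
theorem of_separates_span [IsAlgClosed K] (H : IsPullback q g f (Spec.map (CommRingCat.ofHom (algebraMap k K))))
    [IsProper f] {L : X.Modules} (hL : PicF.IsInvertible L)
    (hM : Separates ((Scheme.Modules.pullback q).obj L)) {n : ℕ} (σ : Fin (n + 1) → Γ(L, ⊤))
    (hσ : letI := FlatH0.modSpec f L
      Submodule.span (CommRingCat.of k) (Set.range σ) = ⊤) :
    ∃ (i : X ⟶ CohB1.ProjSpace n k), IsClosedImmersion i ∧ i ≫ CohB1.ProjSpace.toSpec n k = f ∧
      Nonempty ((Scheme.Modules.pullback i).obj (Twist.twistProjSpace n k 1) ≅ L) := by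
  have hs := iSup_genLocus_eq_top H hL σ hσ hM.h0
  obtain ⟨φ, -, hφf, hφD, hφr, eφ, -⟩ := exists_morphism f L (fun i => ofSec (σ i)) hs
  refine ⟨φ, ?_, hφf, ⟨eφ⟩⟩
  subst hφf
  have : CompactSpace X := QuasiCompact.compactSpace_of_compactSpace (φ ≫ CohB1.ProjSpace.toSpec n k)
  have : QuasiSeparatedSpace X := quasiSeparatedSpace_of_quasiSeparated (φ ≫ CohB1.ProjSpace.toSpec n k)
  have hprop : IsProper (CohB1.ProjSpace.toSpec n k) := inferInstance
  have hφp : IsProper φ := IsProper.of_comp φ (CohB1.ProjSpace.toSpec n k)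
  let Sp := Spec.map (CommRingCat.ofHom (algebraMap k K))
  let P := pullback (CohB1.ProjSpace.toSpec n k) Sp
  let p : P ⟶ CohB1.ProjSpace n k := pullback.fst _ _
  let t : P ⟶ Spec (CommRingCat.of K) := pullback.snd _ _
  have HP : IsPullback p t (CohB1.ProjSpace.toSpec n k) Sp := IsPullback.of_hasPullback _ _
  let ψ : Y ⟶ P := HP.lift (q ≫ φ) g (by rw [Category.assoc]; exact H.w)
  have w1 : ψ ≫ p = q ≫ φ := HP.lift_fst _ _ _
  have w2 : ψ ≫ t = g := HP.lift_snd _ _ _
  have Hψ : IsPullback q ψ φ p := by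
    refine IsPullback.of_bot (h₃₁ := Sp) (v₂₁ := t) (v₂₂ := CohB1.ProjSpace.toSpec n k) ?_ w1.symm HP
    rw [w2]
    exact H
  have hψp : IsProper ψ := MorphismProperty.of_isPullback Hψ hφp
  have htl : LocallyOfFiniteType t :=
    MorphismProperty.of_isPullback HP (inferInstanceAs (LocallyOfFiniteType (CohB1.ProjSpace.toSpec n k)))
  have hSf : Flat Sp := by
    rw [HasRingHomProperty.Spec_iff (P := @Flat)]
    change (algebraMap k K).Flat
    rw [RingHom.flat_algebraMap_iff]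
    infer_instance
  have hSs : Surjective Sp := ⟨fun x => ⟨Classical.arbitrary _, Subsingleton.elim _ _⟩⟩
  have hpf : Flat p := MorphismProperty.of_isPullback HP.flip hSf
  have hps : Surjective p := MorphismProperty.of_isPullback HP.flip hSs
  have hpq : QuasiCompact p := MorphismProperty.of_isPullback HP.flip (inferInstanceAs (QuasiCompact Sp))
  -- the key formula
  have hU : ∀ i, ψ ⁻¹ᵁ (p ⁻¹ᵁ Dp n k i) = q ⁻¹ᵁ (φ ⁻¹ᵁ Dp n k i) := fun i => by
    rw [← Scheme.Hom.comp_preimage, ← Scheme.Hom.comp_preimage, w1]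
  have he : ∀ i, IsGen ((Scheme.Modules.pullback q).obj L) (ψ ⁻¹ᵁ (p ⁻¹ᵁ Dp n k i))
      (PullSec.sec q L (hU i).le (sec (ofSec (σ i)) (φ ⁻¹ᵁ Dp n k i))) := fun i => by
    refine isGen_pullSec q L ?_ _
    rw [← le_genLocus_iff, hφD]
  have key : ∀ (τ : Coh.structureModule Y ⟶ (Scheme.Modules.pullback q).obj L) (i : Fin (n + 1)),
      ∃ β : Γ(P, p ⁻¹ᵁ Dp n k i), ψ.app (p ⁻¹ᵁ Dp n k i) β •
        PullSec.sec q L (hU i).le (sec (ofSec (σ i)) (φ ⁻¹ᵁ Dp n k i)) =
          sec τ (ψ ⁻¹ᵁ (p ⁻¹ᵁ Dp n k i)) := by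
    intro τ i
    obtain ⟨c, hc⟩ := exists_combination H L (isCoh_of_isInvertible hL).1 σ hσ (sec τ ⊤)
    refine ⟨_, exists_beta L (fun i => ofSec (σ i)) φ hφr p t ψ w1 w2 τ c ?_ i (hU i).le⟩
    simpa using hc
  have hcov : ∀ z : P, ∃ i, z ∈ p ⁻¹ᵁ Dp n k i := by
    intro z
    have h1 : p z ∈ (⨆ i, Dp n k i : (CohB1.ProjSpace n k).Opens) := by rw [iSup_Dp]; trivial
    obtain ⟨i, hi⟩ := TopologicalSpace.Opens.mem_iSup.1 h1
    exact ⟨i, hi⟩
  have hψc : IsClosedImmersion ψ := by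
    refine ClosedImmPts.isClosedImmersion_of_closedPoints ψ t ?_ ?_
    · intro x y hx hy hxy
      by_contra hne
      obtain ⟨τ, hτx, hτy⟩ := hM.h1 x y hx hy hne
      obtain ⟨i, hi⟩ := hcov (ψ y)
      obtain ⟨β, hβ⟩ := key τ i
      have h1 := genLocus_inf_eq_basicOpen (he i) τ hβ
      rw [← Scheme.preimage_basicOpen] at h1
      have h2 : y ∈ ψ ⁻¹ᵁ P.basicOpen β := by rw [← h1]; exact ⟨hτy, hi⟩
      have h3 : x ∈ ψ ⁻¹ᵁ P.basicOpen β := by
        change ψ x ∈ P.basicOpen β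
        rw [hxy]
        exact h2
      rw [← h1] at h3
      exact hτx h3.1
    · intro y hy
      have hle : (IsLocalRing.maximalIdeal (P.presheaf.stalk (ψ y))).map (ψ.stalkMap y).hom ≤
          IsLocalRing.maximalIdeal (Y.presheaf.stalk y) := by
        rw [Ideal.map_le_iff_le_comap]
        intro z hz
        exact (IsLocalRing.mem_maximalIdeal _).2 fun hu => (IsLocalRing.mem_maximalIdeal _).1 hz
          (isUnit_of_map_unit _ _ hu)
      by_contra hne
      obtain ⟨V, hyV, e, τ, a, he', ha, ham, haI⟩ := hM.h2 y hy _ (lt_of_le_of_ne hle hne)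
      obtain ⟨i, hi⟩ := hcov (ψ y)
      obtain ⟨β, hβ⟩ := key τ i
      have hyU : y ∈ ψ ⁻¹ᵁ (p ⁻¹ᵁ Dp n k i) := hi
      have l1 : (ψ ⁻¹ᵁ (p ⁻¹ᵁ Dp n k i)) ⊓ V ≤ ψ ⁻¹ᵁ (p ⁻¹ᵁ Dp n k i) := inf_le_left
      have l2 : (ψ ⁻¹ᵁ (p ⁻¹ᵁ Dp n k i)) ⊓ V ≤ V := inf_le_right
      obtain ⟨u, hu⟩ := (he'.mono l2).exists_eq (((Scheme.Modules.pullback q).obj L).presheaf.map (homOfLE l1).op
        (PullSec.sec q L (hU i).le (sec (ofSec (σ i)) (φ ⁻¹ᵁ Dp n k i))))
      have hunit : IsUnit u := (isGen_iff_of_eq_smul (he'.mono l2) hu).1 ((he i).mono l1)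
      have hau : Y.presheaf.map (homOfLE l2).op a = Y.presheaf.map (homOfLE l1).op (ψ.app (p ⁻¹ᵁ Dp n k i) β) * u := by
        apply (he'.mono l2).injective
        rw [← map_smul_section, ha, map_sec, mul_smul, hu, ← map_smul_section, hβ, map_sec]
      have hyW : y ∈ (ψ ⁻¹ᵁ (p ⁻¹ᵁ Dp n k i)) ⊓ V := ⟨hyU, hyV⟩
      have hg : Y.presheaf.germ V y hyV a = (ψ.stalkMap y).hom (P.presheaf.germ _ (ψ y) hi β) *
          Y.presheaf.germ _ y hyW u := by
        have h1 := congr(Y.presheaf.germ _ y hyW $hau)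
        rw [map_mul] at h1
        have h2 : Y.presheaf.germ _ y hyW (Y.presheaf.map (homOfLE l2).op a) = Y.presheaf.germ V y hyV a :=
          TopCat.Presheaf.germ_res_apply _ _ _ _ _
        have h3 : Y.presheaf.germ _ y hyW (Y.presheaf.map (homOfLE l1).op (ψ.app (p ⁻¹ᵁ Dp n k i) β)) =
            Y.presheaf.germ _ y hyU (ψ.app (p ⁻¹ᵁ Dp n k i) β) :=
          TopCat.Presheaf.germ_res_apply _ _ _ _ _
        rw [h2, h3] at h1
        rw [h1]
        congr 1
        exact (Scheme.Hom.germ_stalkMap_apply ψ _ y hi β).symm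
      have hgu : IsUnit (Y.presheaf.germ _ y hyW u) := hunit.map _
      have hm : P.presheaf.germ _ (ψ y) hi β ∈ IsLocalRing.maximalIdeal (P.presheaf.stalk (ψ y)) := by
        refine (IsLocalRing.mem_maximalIdeal _).2 fun hu' => (IsLocalRing.mem_maximalIdeal _).1 ham ?_
        rw [hg]
        exact (hu'.map _).mul hgu
      apply haI
      rw [hg]
      exact Ideal.mul_mem_right _ _ (Ideal.mem_map_of_mem _ hm)
  exact ClosedImmPts.isClosedImmersion_of_isPullback Hψ

end Main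

open Groth.Agent.Fdesc.LocGen K319.Setup K319.Base K319.PicCD K319.PnSep K319.VA IsLocalRing
open Groth.Agent.Grpsch.PicGrp K532.CurvePic Groth.Agent.Dix.IdealModCartier

variable (k : Type u) [Field k] (X : Scheme.{u}) [X.Over (Spec (CommRingCat.of k))]

/-- A basis of `H^0` spans the global sections. -/
theorem exists_span {L : X.Modules} {n : ℕ} (hn : Module.finrank k (Coh.HH X L 0) = n + 1) :
    ∃ σ : Fin (n + 1) → Γ(L, ⊤), (letI := FlatH0.modSpec (X ↘ (Spec (CommRingCat.of k))) L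
      Submodule.span (CommRingCat.of k) (Set.range σ) = ⊤) := by
  have hfin : Module.Finite k (Coh.HH X L 0) := Module.finite_of_finrank_pos (by omega)
  let b := Module.finBasisOfFinrankEq k (Coh.HH X L 0) hn
  refine ⟨fun i => HZero.equivAdd L (b i), ?_⟩
  let m := FlatH0.modSpec (X ↘ (Spec (CommRingCat.of k))) L
  let m2 := HZero.moduleΓ (X := X) k L
  have h3 : m = m2 := rfl
  have h4 : Submodule.span k (Set.range fun i => HZero.equivLin k L (b i)) = ⊤ := by
    have h5 : (Set.range fun i => HZero.equivLin k L (b i)) = (HZero.equivLin k L) '' (Set.range b) := by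
      rw [← Set.range_comp]
      rfl
    rw [h5, ← LinearEquiv.coe_coe, ← Submodule.map_span, b.span_eq, Submodule.map_top, LinearEquiv.range]
  exact h4

variable [IsAlgClosed k] [IsIntegral X] [IsProper (X ↘ (Spec (CommRingCat.of k)))]

theorem exists_closedImmersion_of_NB (hX : Reg X) {L : X.Modules} (hL : PicF.IsInvertible L)
    (h1 : ∀ P : Pts X, NB L P.1)
    (h2 : ∀ P Q : Pts X, NB (CohB1.tensorMod (ClSub.idealMod (I X P.1 P.2)) L) Q.1) {n : ℕ}
    (hn : Module.finrank k (Coh.HH X L 0) = n + 1) :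
    ∃ (i : X ⟶ CohB1.ProjSpace n k), IsClosedImmersion i ∧
      i ≫ CohB1.ProjSpace.toSpec n k = (X ↘ (Spec (CommRingCat.of k))) ∧
      Nonempty ((Scheme.Modules.pullback i).obj (Twist.twistProjSpace n k 1) ≅ L) := by
  have := isNoeth k X
  have H : IsPullback (𝟙 X) (X ↘ (Spec (CommRingCat.of k))) (X ↘ (Spec (CommRingCat.of k)))
      (Spec.map (CommRingCat.ofHom (algebraMap k k))) := by
    have h0 : Spec.map (CommRingCat.ofHom (algebraMap k k)) = 𝟙 _ := by
      rw [Algebra.algebraMap_self]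
      exact Spec.map_id _
    rw [h0]
    exact IsPullback.of_horiz_isIso ⟨by simp⟩
  have e : L ≅ (Scheme.Modules.pullback (𝟙 X)).obj L := ((Scheme.Modules.pullbackId X).app L).symm
  have hL' : PicF.IsInvertible ((Scheme.Modules.pullback (𝟙 X)).obj L) := isInvertible_pullback _ hL
  obtain ⟨σ, hσ⟩ := exists_span k X hn
  refine of_separates_span H hL ?_ σ hσ
  refine ⟨fun y hy => (h1 ⟨y, hy⟩).of_iso e, ?_, ?_⟩
  · intro x y hx hy hxy
    have h3 := (h2 ⟨x, hx⟩ ⟨y, hy⟩).of_iso (Ega2.Tens.mapTIso (Iso.refl _) e)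
    exact (NB_ideal_iff_of_ne x hx hL' hxy.symm).mp h3
  · intro y hy J hJ
    have hE := isEff_I k X hX.dim hX.reg y hy
    have h3 := (h2 ⟨y, hy⟩ ⟨y, hy⟩).of_iso (Ega2.Tens.mapTIso (Iso.refl _) e)
    obtain ⟨V, hyV, e', s, a, he', ha, ham, ham2⟩ :=
      (NB_ideal_self_iff y hy hE hL' (sq_ne k X hX ⟨y, hy⟩)).mp h3
    refine ⟨V, hyV, e', s, a, he', ha, ham, fun hJa => ?_⟩
    -- `a` generates the maximal ideal
    have hd := isDVR k X hX.dim hX.reg (ne_genericPoint hX.dim hy)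
    obtain ⟨ϖ, hϖ⟩ := IsDiscreteValuationRing.exists_irreducible (X.presheaf.stalk y)
    rw [hϖ.maximalIdeal_eq, Ideal.mem_span_singleton] at ham
    obtain ⟨c, hc⟩ := ham
    have hcu : IsUnit c := by
      by_contra hcon
      apply ham2
      rw [hc, sq]
      refine Ideal.mul_mem_mul ?_ ((mem_maximalIdeal _).mpr hcon)
      rw [hϖ.maximalIdeal_eq]
      exact Ideal.mem_span_singleton_self _
    have : maximalIdeal (X.presheaf.stalk y) ≤ J := by
      rw [hϖ.maximalIdeal_eq, Ideal.span_singleton_le_iff_mem]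
      rw [hc] at hJa
      exact (Ideal.mul_unit_mem_iff_mem _ hcu).mp hJa
    exact absurd hJ (not_lt_of_ge this)

/-- An invertible module `L` on a regular curve with `h^0(L) = n + 1` whose sections separate points and tangent
vectors embeds the curve in `P^n`. -/
theorem exists_closedImmersion (hX : Reg X) {L : X.Modules} (hL : PicF.IsInvertible L) {n : ℕ}
    (hn : Module.finrank k (Coh.HH X L 0) = n + 1)
    (h : ∀ P Q : Pts X, (cd k X hX).h (Additive.ofMul (mk L hL) - (cd k X hX).p P - (cd k X hX).p Q) + 2 =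
      (cd k X hX).h (Additive.ofMul (mk L hL))) :
    ∃ (i : X ⟶ CohB1.ProjSpace n k), IsClosedImmersion i ∧
      i ≫ CohB1.ProjSpace.toSpec n k = (X ↘ (Spec (CommRingCat.of k))) ∧
      Nonempty ((Scheme.Modules.pullback i).obj (Twist.twistProjSpace n k 1) ≅ L) := by
  have hI : ∀ P : Pts X, PicF.IsInvertible (ClSub.idealMod (I X P.1 P.2)) := fun P =>
    isInvertible_idealMod (isEff_I k X hX.dim hX.reg P.1 P.2)
  have key : ∀ P Q : Pts X, (cd k X hX).nb Q (Additive.ofMul (mk L hL) - (cd k X hX).p P) ↔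
      NB (CohB1.tensorMod (ClSub.idealMod (I X P.1 P.2)) L) Q.1 := by
    intro P Q
    rw [← NBc_mk Q.1 (isInvertible_tensorMod (hI P) hL), ← mk_mul_mk (hI P) hL]
    change NBc X Q.1 (mk L hL / pt k X hX P) ↔ _
    rw [div_eq_mul_inv, pt, inv_inv, mul_comm]
  have key0 : ∀ P : Pts X, (cd k X hX).nb P (Additive.ofMul (mk L hL)) ↔ NB L P.1 := fun P => NBc_mk P.1 hL
  refine exists_closedImmersion_of_NB k X hX hL ?_ ?_ hn
  · intro P
    rw [← key0 P, (cd k X hX).nb_iff]
    have h1 := h P P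
    have h2 := (cd k X hX).h_le_succ (Additive.ofMul (mk L hL)) P
    have h3 := (cd k X hX).h_le_succ (Additive.ofMul (mk L hL) - (cd k X hX).p P) P
    have h4 := (cd k X hX).h_sub_le (Additive.ofMul (mk L hL)) P
    omega
  · intro P Q
    rw [← key P Q, (cd k X hX).nb_iff]
    have h1 := h P Q
    have h2 := (cd k X hX).h_le_succ (Additive.ofMul (mk L hL)) P
    have h3 := (cd k X hX).h_le_succ (Additive.ofMul (mk L hL) - (cd k X hX).p P) Q
    omega

end K328.PlaneEmb
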