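import Groth.Agent.Curves.K318.PlaneCurve
import Groth.Agent.CurvesB.SubEuler
import Groth.Agent.IntTh.K711.ProjDim
import Groth.Agent.Variety.K426.DimKit
import Groth.Agent.Sga5.ProjReg
import Groth.Agent.S2821
import Groth.Agent.S1684
import Groth.Agent.S1697
import Groth.Agent.Dix.IdealModCartier

/-!
# The genus of an integral plane curve is a triangular number
-/

set_option autoImplicit false
universe u

open CategoryTheory CategoryTheory.Limits AlgebraicGeometry Opposite TopologicalSpace

open Groth.Agent Groth.Agent.VarietyB Groth.Agent.VarietyA.EulerLES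

namespace K328.PlaneGenus

variable (k : Type u) [Field k]

/-- An integral closed subscheme of dimension `1` of the plane has local ring of dimension one at its generic point. -/
theorem ringKrullDim_stalk (D : (CohB1.ProjSpace 2 k).IdealSheafData) [IsIntegral D.subscheme]
    (hdim : topologicalKrullDim D.subscheme = 1) :
    ringKrullDim ((CohB1.ProjSpace 2 k).presheaf.stalk (D.subschemeι (genericPoint ↥D.subscheme))) = 1 := by
  have := K711.ProjDim.isIntegral_projSpace 2 k
  have hlft : LocallyOfFiniteType ((CohB1.ProjSpace 2 k) ↘ Spec (CommRingCat.of k)) :=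
    inferInstanceAs (LocallyOfFiniteType (CohB1.ProjSpace.toSpec 2 k))
  set ξ := D.subschemeι (genericPoint ↥D.subscheme) with hξ
  have h1 := DimSch.localDim_eq k ξ
  have h2 := DimSch.localDim_eq_of_irreducible k ξ
  have h3 := DimSch.topologicalKrullDim_eq_trd k (X := CohB1.ProjSpace 2 k)
  have h4 := K711.ProjDim.topologicalKrullDim_projSpace 2 k
  have h5 := K426.DimKit.dim_closure k (CohB1.ProjSpace 2 k) ξ
  have h6 : closure {ξ} = Set.range D.subschemeι := by
    rw [hξ, ← Set.image_singleton, D.subschemeι.isClosedEmbedding.isClosedMap.closure_image_eq_of_continuous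
      D.subschemeι.continuous, genericPoint_closure, Set.image_univ]
  have h7 : topologicalKrullDim (closure {ξ} : Set (CohB1.ProjSpace 2 k)) = 1 := by
    rw [h6, ← hdim]
    exact (IsHomeomorph.topologicalKrullDim_eq _
      (D.subschemeι.isClosedEmbedding.isEmbedding.toHomeomorph.isHomeomorph)).symm
  rw [h7] at h5
  rw [h2, ← h3, h4, ← h5] at h1
  have h8 := h1.symm
  generalize ringKrullDim ((CohB1.ProjSpace 2 k).presheaf.stalk ξ) = r at h8 ⊢
  induction r with
  | bot => simp at h8
  | coe r =>
    induction r with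
    | top => exact absurd h8 (by decide)
    | coe r =>
      have h9 : ((r + 1 : ℕ) : WithBot ℕ∞) = ((2 : ℕ) : WithBot ℕ∞) := h8
      have h10 : r + 1 = 2 := by exact_mod_cast h9
      have h11 : r = 1 := by omega
      subst h11
      rfl

/-- The ideal of an integral plane curve is invertible. -/
theorem isInvertible_idealMod (D : (CohB1.ProjSpace 2 k).IdealSheafData) [IsIntegral D.subscheme]
    (hdim : topologicalKrullDim D.subscheme = 1) : PicF.IsInvertible (ClSub.idealMod D) := by
  refine Dix.IdealModCartier.isInvertible_idealMod (S1684.result _ D (ringKrullDim_stalk k D hdim) fun x _ => ?_)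
  have := Sga5.ProjReg.isRegularLocalRing_stalk 2 k x
  exact S2821.result _

theorem genus_subscheme (D : (CohB1.ProjSpace 2 k).IdealSheafData) [IsIntegral D.subscheme]
    (hdim : topologicalKrullDim D.subscheme = 1) [D.subscheme.Over (Spec (CommRingCat.of k))]
    (hi : D.subschemeι ≫ CohB1.ProjSpace.toSpec 2 k = D.subscheme ↘ (Spec (CommRingCat.of k))) :
    Curv2.genus k D.subscheme = 0 ∨ ∃ n : ℕ, Curv2.genus k D.subscheme = Nat.choose (n + 2) 2 := by
  obtain ⟨d, ⟨e⟩⟩ := S1697.result k 2 _ (isInvertible_idealMod k D hdim)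
  obtain ⟨e0⟩ := Ega2.TwistInv.nonempty_unit_iso (CohB1.polyGrading 2 k)
  have hS := RestrSeq.idealSeq_shortExact D
  have key : Curv2.genus k D.subscheme =
      Module.finrank k (Coh.HH (CohB1.ProjSpace 2 k) (Twist.twistProjSpace 2 k d) 2) := by
    have e0' : Coh.structureModule (CohB1.ProjSpace 2 k) ≅ Twist.twistProjSpace 2 k 0 := e0
    have s1 : Subsingleton (Coh.HH (CohB1.ProjSpace 2 k) (RestrSeq.idealSeq D).X₂ 1) :=
      have := K318.PlaneCurve.h1_twist k 0
      (equivA k e0' 1).toEquiv.subsingleton
    have s2 : Subsingleton (Coh.HH (CohB1.ProjSpace 2 k) (RestrSeq.idealSeq D).X₂ 2) :=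
      have := K318.PlaneCurve.h2_twist_of_lt k (m := 0) (by norm_num)
      (equivA k e0' 2).toEquiv.subsingleton
    have hex1 := exactA₁ k _ hS 1 2 rfl
    have hex3 := exactA₃ k _ hS 1 2 rfl
    have hb : Function.Bijective (deltaA k _ hS 1 2 rfl) := by
      refine ⟨?_, fun y => (hex1 y).1 (Subsingleton.elim _ _)⟩
      rw [injective_iff_map_eq_zero]
      intro x hx
      obtain ⟨y, hy⟩ := (hex3 x).1 hx
      rw [← hy, show y = 0 from Subsingleton.elim _ _, map_zero]
    have h1 := (LinearEquiv.ofBijective _ hb).finrank_eq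
    have h2 := (CurvesC.CurveNum.hhPushₗ k D.subschemeι hi (Coh.structureModule D.subscheme) 1).finrank_eq
    have h3 := (equivA k e 2).finrank_eq
    exact h2.trans (h1.trans h3)
  rw [key]
  by_cases h : -3 < d
  · have := K318.PlaneCurve.h2_twist_of_lt k h
    exact Or.inl Module.finrank_zero_of_subsingleton
  · obtain ⟨n, hn⟩ := Int.exists_add_of_le (not_lt.mp h)
    exact Or.inr ⟨n, K318.PlaneCurve.h2_twist k n (by omega)⟩

/-- The genus of an integral curve embedded in the plane is zero or a triangular number. -/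
theorem genus_eq (X : Scheme.{u}) [X.Over (Spec (CommRingCat.of k))] [IsIntegral X]
    (hdim : topologicalKrullDim X = 1) (i : X ⟶ CohB1.ProjSpace 2 k) [IsClosedImmersion i]
    (hi : i ≫ CohB1.ProjSpace.toSpec 2 k = X ↘ (Spec (CommRingCat.of k))) :
    Curv2.genus k X = 0 ∨ ∃ n : ℕ, Curv2.genus k X = Nat.choose (n + 2) 2 := by
  let D := i.ker
  let e : X ⟶ D.subscheme := i.toImage
  have he : e ≫ D.subschemeι = i := i.toImage_imageι
  have hiso : IsIso e := inferInstanceAs (IsIso i.toImage)
  have hne : Nonempty D.subscheme := ⟨e (genericPoint X)⟩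
  have hint : IsIntegral D.subscheme := isIntegral_of_isOpenImmersion (inv e)
  let inst : D.subscheme.Over (Spec (CommRingCat.of k)) := ⟨D.subschemeι ≫ CohB1.ProjSpace.toSpec 2 k⟩
  have hd : topologicalKrullDim D.subscheme = 1 := by
    rw [← hdim]
    exact (IsHomeomorph.topologicalKrullDim_eq _ e.homeomorph.isHomeomorph).symm
  have h := genus_subscheme k D hd rfl
  rwa [← CurvesB.SubEuler.genus_eq e k (by
    change e ≫ D.subschemeι ≫ CohB1.ProjSpace.toSpec 2 k = _
    rw [← Category.assoc, he, hi])] at h

/-- There is no plane curve of genus nine. -/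
theorem genus_ne_nine (X : Scheme.{u}) [X.Over (Spec (CommRingCat.of k))] [IsIntegral X]
    (hdim : topologicalKrullDim X = 1) (i : X ⟶ CohB1.ProjSpace 2 k) [IsClosedImmersion i]
    (hi : i ≫ CohB1.ProjSpace.toSpec 2 k = X ↘ (Spec (CommRingCat.of k))) : Curv2.genus k X ≠ 9 := by
  intro h9
  rcases genus_eq k X hdim i hi with h | ⟨n, h⟩
  · omega
  · rw [h9] at h
    have h4 : n < 3 ∨ 3 ≤ n := lt_or_ge _ _
    rcases h4 with h4 | h4
    · interval_cases n <;> simp [Nat.choose] at h
    · have := Nat.choose_le_choose 2 (show 5 ≤ n + 2 by omega)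
      rw [← h] at this
      simp [Nat.choose] at this

end K328.PlaneGenus
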