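import Mathlib.LinearAlgebra.QuadraticForm.Basic
import Mathlib.LinearAlgebra.Matrix.BilinearForm
import Mathlib.LinearAlgebra.Matrix.SesquilinearForm
import Mathlib.LinearAlgebra.Dimension.StrongRankCondition
import Mathlib.LinearAlgebra.FiniteDimensional.Lemmas
import Mathlib.FieldTheory.IsAlgClosed.Basic

/-!
# Quadratic relations of rank at most four split

`μ : V × V → W` symmetric bilinear without zero divisors, `n = dim V ≤ 4`, `dim W < n (n + 1) / 2`, over an
algebraically closed field of characteristic not two.  Then there is a relation `μ s₁ s₂ = μ s₃ s₄` with `s₁, s₃`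
and `s₂, s₃` linearly independent.
-/

set_option autoImplicit false

namespace K328.QuadSplit

variable {k V W : Type*} [Field k] [AddCommGroup V] [Module k V] [AddCommGroup W] [Module k W]

open Module

/-- Existence of a nonzero symmetric relation. -/
theorem exists_symm_relation [Module.Finite k V] [Module.Finite k W] (h2 : (2 : k) ≠ 0) {n : ℕ}
    (b : Basis (Fin n) k V) (μ : V →ₗ[k] V →ₗ[k] W) (hμ : ∀ x y, μ x y = μ y x)
    (hW : 2 * finrank k W < n * (n + 1)) :
    ∃ C : Matrix (Fin n) (Fin n) k, C ≠ 0 ∧ (∀ i j, C i j = C j i) ∧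
      ∑ i, ∑ j, C i j • μ (b i) (b j) = 0 := by
  classical
  -- the space of symmetric matrices
  let S : Submodule k (Matrix (Fin n) (Fin n) k) :=
    { carrier := {C | ∀ i j, C i j = C j i}
      add_mem' := fun {C D} hC hD i j => by
        rw [Matrix.add_apply, Matrix.add_apply, hC, hD]
      zero_mem' := fun i j => rfl
      smul_mem' := fun a C hC i j => by
        rw [Matrix.smul_apply, Matrix.smul_apply, hC] }
  let T : Submodule k (Matrix (Fin n) (Fin n) k) :=
    { carrier := {C | ∀ i j, i ≤ j → C i j = 0}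
      add_mem' := fun {C D} hC hD i j hij => by
        rw [Matrix.add_apply, hC i j hij, hD i j hij, add_zero]
      zero_mem' := fun i j _ => rfl
      smul_mem' := fun a C hC i j hij => by
        rw [Matrix.smul_apply, hC i j hij, smul_zero] }
  -- upper triangular functions inject into symmetric matrices
  let P := {p : Fin n × Fin n // p.1 ≤ p.2}
  let ext : (P → k) →ₗ[k] S :=
    { toFun := fun c => ⟨fun i j => if h : i ≤ j then c ⟨(i, j), h⟩ else c ⟨(j, i), (not_le.1 h).le⟩, by
        intro i j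
        dsimp only
        by_cases h : i ≤ j
        · by_cases h' : j ≤ i
          · have := le_antisymm h h'
            subst this
            rfl
          · rw [dif_pos h, dif_neg h']
        · rw [dif_neg h, dif_pos (not_le.1 h).le]⟩
      map_add' := fun c d => by
        ext i j
        change (if h : i ≤ j then (c + d) ⟨(i, j), h⟩ else (c + d) ⟨(j, i), (not_le.1 h).le⟩) =
          (if h : i ≤ j then c ⟨(i, j), h⟩ else c ⟨(j, i), (not_le.1 h).le⟩) +
          (if h : i ≤ j then d ⟨(i, j), h⟩ else d ⟨(j, i), (not_le.1 h).le⟩)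
        split_ifs <;> rfl
      map_smul' := fun a c => by
        ext i j
        change (if h : i ≤ j then (a • c) ⟨(i, j), h⟩ else (a • c) ⟨(j, i), (not_le.1 h).le⟩) =
          a • (if h : i ≤ j then c ⟨(i, j), h⟩ else c ⟨(j, i), (not_le.1 h).le⟩)
        split_ifs <;> rfl }
  have hinj : Function.Injective ext := by
    intro c d hcd
    funext p
    obtain ⟨⟨i, j⟩, h⟩ := p
    have h1 := congrFun (congrFun (congrArg Subtype.val hcd) i) j
    change (if h : i ≤ j then c ⟨(i, j), h⟩ else c ⟨(j, i), (not_le.1 h).le⟩) =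
      (if h : i ≤ j then d ⟨(i, j), h⟩ else d ⟨(j, i), (not_le.1 h).le⟩) at h1
    rw [dif_pos h, dif_pos h] at h1
    exact h1
  let Φ : Matrix (Fin n) (Fin n) k →ₗ[k] W :=
    { toFun := fun C => ∑ i, ∑ j, C i j • μ (b i) (b j)
      map_add' := fun C D => by
        simp only [Matrix.add_apply, add_smul, Finset.sum_add_distrib]
      map_smul' := fun a C => by
        simp only [Matrix.smul_apply, smul_assoc, Finset.smul_sum, RingHom.id_apply] }
  let Ψ : (P → k) →ₗ[k] W := Φ ∘ₗ S.subtype ∘ₗ ext
  -- the cardinality of `P`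
  have hcard : 2 * Fintype.card P = n * (n + 1) := by
    have h1 : Fintype.card P = ∑ i : Fin n, Fintype.card {j : Fin n // i ≤ j} := by
      rw [← Fintype.card_sigma]
      refine Fintype.card_congr
        { toFun := fun p => ⟨p.1.1, ⟨p.1.2, p.2⟩⟩
          invFun := fun q => ⟨(q.1, q.2.1), q.2.2⟩
          left_inv := fun _ => rfl
          right_inv := fun _ => rfl }
    have h2 : ∀ i : Fin n, Fintype.card {j : Fin n // i ≤ j} = n - i := by
      intro i
      rw [Fintype.card_subtype]
      have : (Finset.univ.filter fun j : Fin n => i ≤ j) = Finset.Ici i := by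
        ext j; simp
      rw [this, Fin.card_Ici]
    rw [h1]
    simp only [h2]
    rw [Fin.sum_univ_eq_sum_range (fun i => n - i) n]
    have h3 : ∑ i ∈ Finset.range n, (n - i) = ∑ i ∈ Finset.range n, (i + 1) := by
      rw [← Finset.sum_range_reflect (fun i => i + 1) n]
      refine Finset.sum_congr rfl fun i hi => ?_
      have := Finset.mem_range.1 hi
      omega
    rw [h3]
    have h4 := Finset.sum_range_id_mul_two (n + 1)
    rw [Finset.sum_range_succ'] at h4
    simp only [add_zero, Nat.add_sub_cancel] at h4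
    rw [mul_comm 2, h4, mul_comm]
  have hdim : finrank k W < finrank k (P → k) := by
    rw [finrank_fintype_fun_eq_card]
    omega
  obtain ⟨c, hc, hc0⟩ := Submodule.exists_mem_ne_zero_of_ne_bot
    (LinearMap.ker_ne_bot_of_finrank_lt (f := Ψ) hdim)
  refine ⟨(ext c).1, ?_, (ext c).2, hc⟩
  intro h0
  apply hc0
  apply hinj
  rw [map_zero]
  exact Subtype.ext h0

/-- Diagonalization of a symmetric relation. -/
theorem exists_diagonal_relation [Module.Finite k V] (h2 : (2 : k) ≠ 0) {n : ℕ}
    (b : Basis (Fin n) k V) (μ : V →ₗ[k] V →ₗ[k] W)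
    (C : Matrix (Fin n) (Fin n) k) (hC0 : C ≠ 0) (hC : ∀ i j, C i j = C j i)
    (hrel : ∑ i, ∑ j, C i j • μ (b i) (b j) = 0) :
    ∃ (v : Basis (Fin n) k V) (β : Fin n → k), β ≠ 0 ∧ ∑ l, β l • μ (v l) (v l) = 0 := by
  classical
  have : Invertible (2 : k) := invertibleOfNonzero h2
  let B : LinearMap.BilinForm k (Fin n → k) := Matrix.toBilin' C
  have hBs : LinearMap.IsSymm B := ⟨fun x y => by
    simp only [B, Matrix.toBilin'_apply, RingHom.id_apply]
    rw [Finset.sum_comm]
    refine Finset.sum_congr rfl fun i _ => Finset.sum_congr rfl fun j _ => ?_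
    rw [hC]
    ring⟩
  obtain ⟨w, hw⟩ := LinearMap.BilinForm.exists_orthogonal_basis hBs
  have hn : finrank k (Fin n → k) = n := by simp
  let w' : Basis (Fin n) k (Fin n → k) := w.reindex (finCongr hn)
  have hw' : ∀ i j, i ≠ j → B (w' i) (w' j) = 0 := by
    intro i j hij
    simp only [w', Basis.reindex_apply]
    exact hw (fun h => hij ((finCongr hn).symm.injective h))
  let β : Fin n → k := fun l => B (w' l) (w' l)
  -- `B` in the dual basis
  have hB : ∀ x y, B x y = ∑ l, β l * (w'.coord l x) * (w'.coord l y) := by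
    intro x y
    conv_lhs => rw [← w'.sum_repr x, ← w'.sum_repr y]
    rw [map_sum B, LinearMap.sum_apply]
    refine Finset.sum_congr rfl fun l _ => ?_
    rw [map_smul, LinearMap.smul_apply, map_sum, Finset.sum_eq_single l]
    · simp only [map_smul, smul_eq_mul, Basis.coord_apply, β]; ring
    · intro j _ hj
      rw [map_smul, hw' l j hj.symm, smul_zero]
    · intro h; exact absurd (Finset.mem_univ _) h
  have hCB : ∀ i j, C i j = ∑ l, β l * (w'.coord l (Pi.single i 1)) * (w'.coord l (Pi.single j 1)) := by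
    intro i j
    rw [← hB]
    simp only [B]
    rw [Matrix.toBilin'_single]
  -- the new basis of `V`
  let e : (Fin n → k) ≃ₗ[k] (Fin n → k) := w'.equivFun
  let v : Fin n → V := fun l => ∑ i, w'.coord l (Pi.single i 1) • b i
  have hvli : LinearIndependent k v := by
    rw [Fintype.linearIndependent_iff]
    intro a ha
    have h1 : ∀ i, ∑ l, a l * w'.coord l (Pi.single i 1) = 0 := by
      have h2 : ∑ i, (∑ l, a l * w'.coord l (Pi.single i 1)) • b i = 0 := by
        rw [← ha]
        simp only [v, Finset.smul_sum, Finset.sum_smul]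
        rw [Finset.sum_comm]
        refine Finset.sum_congr rfl fun l _ => Finset.sum_congr rfl fun i _ => ?_
        rw [smul_smul]
      exact Fintype.linearIndependent_iff.1 b.linearIndependent _ h2
    have h3 : (∑ l, a l • w'.coord l) = 0 := by
      apply (Pi.basisFun k (Fin n)).ext
      intro i
      rw [LinearMap.sum_apply, LinearMap.zero_apply, ← h1 i]
      refine Finset.sum_congr rfl fun l _ => ?_
      rw [LinearMap.smul_apply, smul_eq_mul, Pi.basisFun_apply]
    intro l
    have h4 := congr($h3 (w' l))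
    rw [LinearMap.sum_apply, LinearMap.zero_apply] at h4
    simp only [LinearMap.smul_apply, Basis.coord_apply, Basis.repr_self, smul_eq_mul] at h4
    rw [Finset.sum_eq_single l] at h4
    · simpa using h4
    · intro j _ hj
      rw [Finsupp.single_eq_of_ne (by exact hj)]; simp
    · intro h; exact absurd (Finset.mem_univ _) h
  have hcardV : Fintype.card (Fin n) = finrank k V := by rw [finrank_eq_card_basis b]
  rcases n.eq_zero_or_pos with hn0 | hn0
  · subst hn0
    exact absurd (by ext i; exact i.elim0) hC0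
  have : Nonempty (Fin n) := ⟨⟨0, hn0⟩⟩
  refine ⟨basisOfLinearIndependentOfCardEqFinrank hvli hcardV, β, ?_, ?_⟩
  · intro h0
    apply hC0
    ext i j
    rw [hCB, h0]
    simp
  · rw [coe_basisOfLinearIndependentOfCardEqFinrank, ← hrel]
    have : ∀ l, β l • μ (v l) (v l) = ∑ i, ∑ j,
        (β l * w'.coord l (Pi.single i 1) * w'.coord l (Pi.single j 1)) • μ (b i) (b j) := by
      intro l
      simp only [v, map_sum, map_smul, LinearMap.sum_apply, LinearMap.smul_apply, Finset.smul_sum, smul_smul]
      rw [Finset.sum_comm]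
      refine Finset.sum_congr rfl fun i _ => Finset.sum_congr rfl fun j _ => ?_
      congr 1
      ring
    rw [Finset.sum_congr rfl fun l _ => this l]
    rw [Finset.sum_comm]
    refine Finset.sum_congr rfl fun i _ => ?_
    rw [Finset.sum_comm]
    refine Finset.sum_congr rfl fun j _ => ?_
    rw [hCB, Finset.sum_smul]

/-- Splitting of a diagonal relation with at most four terms. -/
theorem exists_split [IsAlgClosed k] {n : ℕ} (hn : n ≤ 4)
    (μ : V →ₗ[k] V →ₗ[k] W) (hμ : ∀ x y, μ x y = μ y x) (hdom : ∀ x y, μ x y = 0 → x = 0 ∨ y = 0)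
    (v : Basis (Fin n) k V) (β : Fin n → k) (hβ : β ≠ 0) (hrel : ∑ l, β l • μ (v l) (v l) = 0) :
    ∃ s₁ s₂ s₃ s₄ : V, μ s₁ s₂ = μ s₃ s₄ ∧
      (∀ a b : k, a • s₁ + b • s₃ = 0 → a = 0 ∧ b = 0) ∧
      (∀ a b : k, a • s₂ + b • s₃ = 0 → a = 0 ∧ b = 0) := by
  classical
  obtain ⟨I, hI⟩ := IsAlgClosed.exists_pow_nat_eq (-1 : k) (n := 2) (by norm_num)
  choose r hr using fun l => IsAlgClosed.exists_pow_nat_eq (β l) (n := 2) (by norm_num)
  -- the scaled vectors
  obtain ⟨x, hxdef⟩ : ∃ x : Fin n → V, ∀ l, x l = r l • v l := ⟨fun l => r l • v l, fun _ => rfl⟩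
  have hx : ∀ l, μ (x l) (x l) = β l • μ (v l) (v l) := by
    intro l
    simp only [hxdef, map_smul, LinearMap.smul_apply, smul_smul]
    rw [← pow_two, hr]
  have hrel' : ∑ l, μ (x l) (x l) = 0 := by rw [Finset.sum_congr rfl fun l _ => hx l]; exact hrel
  have hr0 : ∀ l, β l ≠ 0 → r l ≠ 0 := by
    intro l hl h0
    apply hl
    rw [← hr l, h0]; norm_num
  have hsq : ∀ a b : V, μ (a + I • b) (a - I • b) = μ a a + μ b b := by
    intro a b
    have h1 : μ (I • b) (I • b) = - μ b b := by
      rw [map_smul, map_smul, LinearMap.smul_apply, smul_smul, ← pow_two, hI, neg_smul, one_smul]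
    rw [map_add, LinearMap.add_apply, map_sub, map_sub, h1, map_smul, map_smul, LinearMap.smul_apply, hμ b a]
    abel
  have hzero : ∀ l, β l = 0 → x l = 0 := by
    intro l hl
    have : r l = 0 := by
      have := hr l
      rw [hl] at this
      exact pow_eq_zero_iff (by norm_num) |>.1 this
    rw [hxdef, this, zero_smul]
  obtain ⟨l0, hl0⟩ : ∃ l, β l ≠ 0 := by
    by_contra h
    push Not at h
    exact hβ (funext h)
  have hsum0 := Finset.add_sum_erase Finset.univ (fun l => μ (x l) (x l)) (Finset.mem_univ l0)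
  rw [hrel'] at hsum0
  obtain ⟨l1, hl1m, hl1⟩ : ∃ l ∈ Finset.univ.erase l0, β l ≠ 0 := by
    by_contra h
    push Not at h
    have h1 : ∑ l ∈ Finset.univ.erase l0, μ (x l) (x l) = 0 :=
      Finset.sum_eq_zero fun l hl => by rw [hzero l (h l hl)]; simp
    rw [h1, add_zero] at hsum0
    have h2 : x l0 = 0 := (hdom _ _ hsum0).elim id id
    rw [hxdef] at h2
    exact v.ne_zero l0 ((smul_eq_zero.1 h2).resolve_left (hr0 l0 hl0))
  have hl01 : l1 ≠ l0 := (Finset.mem_erase.1 hl1m).1
  have hsum1 := Finset.add_sum_erase (Finset.univ.erase l0) (fun l => μ (x l) (x l)) hl1m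
  rw [← hsum1] at hsum0
  -- coordinates
  have hcoord : ∀ l m, v.coord l (x m) = if m = l then r m else 0 := by
    intro l m
    simp only [hxdef, map_smul, Basis.coord_apply, Basis.repr_self, smul_eq_mul, Finsupp.single_apply]
    split_ifs <;> simp
  obtain ⟨l2, hl2m, hl2⟩ : ∃ l ∈ (Finset.univ.erase l0).erase l1, β l ≠ 0 := by
    by_contra h
    push Not at h
    have h1 : ∑ l ∈ (Finset.univ.erase l0).erase l1, μ (x l) (x l) = 0 :=
      Finset.sum_eq_zero fun l hl => by rw [hzero l (h l hl)]; simp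
    rw [h1, add_zero, ← hsq] at hsum0
    rcases hdom _ _ hsum0 with h2 | h2
    · have h3 := congr(v.coord l0 $h2)
      rw [map_add, map_smul, hcoord, hcoord, if_pos rfl, if_neg hl01, map_zero, smul_zero, add_zero] at h3
      exact hr0 l0 hl0 h3
    · have h3 := congr(v.coord l0 $h2)
      rw [map_sub, map_smul, hcoord, hcoord, if_pos rfl, if_neg hl01, map_zero, smul_zero, sub_zero] at h3
      exact hr0 l0 hl0 h3
  have hl21 : l2 ≠ l1 := (Finset.mem_erase.1 hl2m).1
  have hl20 : l2 ≠ l0 := (Finset.mem_erase.1 (Finset.mem_erase.1 hl2m).2).1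
  have hsum2 := Finset.add_sum_erase ((Finset.univ.erase l0).erase l1) (fun l => μ (x l) (x l)) hl2m
  rw [← hsum2] at hsum0
  have hcard : (((Finset.univ.erase l0).erase l1).erase l2).card ≤ 1 := by
    rw [Finset.card_erase_of_mem hl2m, Finset.card_erase_of_mem hl1m,
      Finset.card_erase_of_mem (Finset.mem_univ _), Finset.card_univ, Fintype.card_fin]
    omega
  -- the remaining vector
  obtain ⟨y, hy, hy0, hy1, hy2⟩ : ∃ y : V,
      ∑ l ∈ ((Finset.univ.erase l0).erase l1).erase l2, μ (x l) (x l) = μ y y ∧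
      v.coord l0 y = 0 ∧ v.coord l1 y = 0 ∧ v.coord l2 y = 0 := by
    have : Nonempty (Fin n) := ⟨l0⟩
    rcases Finset.card_le_one_iff_subset_singleton.1 hcard with ⟨l3, hl3⟩
    by_cases h : l3 ∈ ((Finset.univ.erase l0).erase l1).erase l2
    · have h1 : ((Finset.univ.erase l0).erase l1).erase l2 = {l3} :=
        Finset.Subset.antisymm hl3 (by simpa using h)
      have h2 : l3 ≠ l2 := (Finset.mem_erase.1 h).1
      have h3 : l3 ≠ l1 := (Finset.mem_erase.1 (Finset.mem_erase.1 h).2).1
      have h4 : l3 ≠ l0 := (Finset.mem_erase.1 (Finset.mem_erase.1 (Finset.mem_erase.1 h).2).2).1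
      refine ⟨x l3, by rw [h1, Finset.sum_singleton], ?_, ?_, ?_⟩
      · rw [hcoord, if_neg h4]
      · rw [hcoord, if_neg h3]
      · rw [hcoord, if_neg h2]
    · have h1 : ((Finset.univ.erase l0).erase l1).erase l2 = ∅ := by
        rw [Finset.eq_empty_iff_forall_notMem]
        intro l hl
        have := Finset.mem_singleton.1 (hl3 hl)
        subst this
        exact h hl
      exact ⟨0, by rw [h1]; simp, by simp, by simp, by simp⟩
  rw [hy, ← hsq (x l2) y, ← add_assoc, ← hsq (x l0) (x l1)] at hsum0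
  refine ⟨x l0 + I • x l1, x l0 - I • x l1, -(x l2 + I • y), x l2 - I • y, ?_, ?_, ?_⟩
  · rw [map_neg, LinearMap.neg_apply]
    exact eq_neg_of_add_eq_zero_left hsum0
  · intro a b h
    have h0 := congr(v.coord l0 $h)
    have h2 := congr(v.coord l2 $h)
    simp only [map_add, map_smul, map_neg, hcoord, hy0, hy2, smul_zero, map_zero, if_pos, if_neg hl01,
      if_neg hl20, if_neg hl20.symm, if_neg hl21.symm, smul_eq_mul, mul_zero, add_zero, neg_zero] at h0 h2
    refine ⟨(mul_eq_zero.1 h0).resolve_right (hr0 l0 hl0), ?_⟩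
    rw [zero_add] at h2
    exact (mul_eq_zero.1 h2).resolve_right (neg_ne_zero.2 (hr0 l2 hl2))
  · intro a b h
    have h0 := congr(v.coord l0 $h)
    have h2 := congr(v.coord l2 $h)
    simp only [map_add, map_sub, map_smul, map_neg, hcoord, hy0, hy2, smul_zero, map_zero, if_pos, if_neg hl01,
      if_neg hl20, if_neg hl20.symm, if_neg hl21.symm, smul_eq_mul, mul_zero, add_zero, neg_zero, sub_zero,
      sub_self] at h0 h2
    refine ⟨(mul_eq_zero.1 h0).resolve_right (hr0 l0 hl0), ?_⟩
    rw [zero_add] at h2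
    exact (mul_eq_zero.1 h2).resolve_right (neg_ne_zero.2 (hr0 l2 hl2))

/-- The main statement. -/
theorem main [IsAlgClosed k] [Module.Finite k V] [Module.Finite k W] (h2 : (2 : k) ≠ 0)
    (μ : V →ₗ[k] V →ₗ[k] W) (hμ : ∀ x y, μ x y = μ y x) (hdom : ∀ x y, μ x y = 0 → x = 0 ∨ y = 0)
    (hV : finrank k V ≤ 4) (hW : 2 * finrank k W < finrank k V * (finrank k V + 1)) :
    ∃ s₁ s₂ s₃ s₄ : V, μ s₁ s₂ = μ s₃ s₄ ∧
      (∀ a b : k, a • s₁ + b • s₃ = 0 → a = 0 ∧ b = 0) ∧
      (∀ a b : k, a • s₂ + b • s₃ = 0 → a = 0 ∧ b = 0) := by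
  obtain ⟨C, hC0, hC, hrel⟩ := exists_symm_relation h2 (finBasis k V) μ hμ hW
  obtain ⟨v, β, hβ, hrel'⟩ := exists_diagonal_relation h2 (finBasis k V) μ C hC0 hC hrel
  exact exists_split hV μ hμ hdom v β hβ hrel'

end K328.QuadSplit
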