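import Groth.Agent.Curves.K328.Genus9
import Groth.Agent.CurvesB.OmegaInv
import Groth.Agent.S1612

/-!
# Serre duality for invertible modules on a smooth proper curve, on classes

`serre`: `h^1(c) = h^0(K c⁻¹)`, `K` the class of the sheaf of differentials; `dg_K`: `deg K = 2 g - 2`.

The pairing `H^0(K c⁻¹) × H^1(c) → H^1(K)` followed by a nonzero form on `H^1(K)` gives
`h^0(K c⁻¹) ≤ h^1(c)`, as multiplication by a nonzero section is surjective on `H^1`; apply this to `c` and `K c⁻¹` and
compare with Riemann-Roch.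
-/

set_option autoImplicit false
universe u
open CategoryTheory CategoryTheory.Limits AlgebraicGeometry Opposite TopologicalSpace
open Groth.Agent.Grpsch.PicGrp Groth.Agent.Fdesc.LocGen Groth.Agent.CurvesB.HZero
open K328.PicCalc K328.Genus9 K328.Mult

namespace K328.Serre

/-- If every nonzero `v` gives a surjection `W → U ≠ 0` then `dim V ≤ dim W`. -/
theorem finrank_le_of_pairing {k V W U : Type*} [Field k] [AddCommGroup V] [Module k V] [AddCommGroup W]
    [Module k W] [AddCommGroup U] [Module k U] [Module.Finite k V] [Module.Finite k W]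
    (T : V →ₗ[k] W →ₗ[k] U) (hT : ∀ v, v ≠ 0 → Function.Surjective (T v)) (hU : 0 < Module.finrank k U) :
    Module.finrank k V ≤ Module.finrank k W := by
  have hnt : Nontrivial U := Module.nontrivial_of_finrank_pos (R := k) hU
  obtain ⟨x, hx⟩ := exists_ne (0 : U)
  obtain ⟨ψ, hψ⟩ : ∃ ψ : U →ₗ[k] k, ψ x ≠ 0 := by
    by_contra hcon
    push Not at hcon
    exact hx ((Module.forall_dual_apply_eq_zero_iff k x).1 hcon)
  let T' : V →ₗ[k] Module.Dual k W := T.compr₂ ψ
  have hT' : Function.Injective T' := by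
    rw [injective_iff_map_eq_zero]
    intro m hm
    by_contra hm0
    obtain ⟨y, hy⟩ := hT m hm0 x
    apply hψ
    rw [← hy]
    exact congr($hm y)
  have := LinearMap.finrank_le_finrank_of_injective hT'
  rwa [Subspace.dual_finrank_eq] at this

section

variable (k : Type u) [Field k] (X : Scheme.{u}) [X.Over (Spec (CommRingCat.of k))]
variable [IsProper (X ↘ (Spec (CommRingCat.of k)))] [IsIntegral X] (hdim : topologicalKrullDim X = 1)

include hdim in
/-- If `H^1(c d) ≠ 0` then `h^0(d) ≤ h^1(c)`. -/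
theorem hh_zero_le {c d : Pic X} (h : 0 < hh k X 1 (c * d)) : hh k X 0 d ≤ hh k X 1 c := by
  induction c using ind with | _ F hF => ?_
  induction d using ind with | _ L hL => ?_
  rw [mk_mul_mk, hh_mk] at h
  rw [hh_mk, hh_mk]
  have := Groth.Agent.CurvesB.CurveRR.isNoetherian_of_proper k X
  have f1 := finite_HH k X hF 1
  have f2 := finite_HH k X hL 0
  exact finrank_le_of_pairing (mulL k F L 1) (fun m hm =>
    mulL_surjective k hdim.le (Groth.Agent.CurvesB.InvEmb.locEmb_of_isInvertible hF)
      (not_isZero X hdim hF) hL hm 0) h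

end

variable (k : Type u) [Field k] (X : Scheme.{u}) [X.Over (Spec (CommRingCat.of k))]

/-- The canonical class. -/
noncomputable def K (hX : Curve.IsSmoothProperCurve k X (X ↘ (Spec (CommRingCat.of k)))) : Pic X :=
  mk (Omega.sheaf (X ↘ (Spec (CommRingCat.of k))))
    (haveI := hX.1; haveI := hX.2.1; haveI := hX.2.2.1
     Groth.Agent.CurvesB.OmegaInv.isInvertible_omega _ hX.2.2.2)

variable (hX : Curve.IsSmoothProperCurve k X (X ↘ (Spec (CommRingCat.of k))))

theorem dg_K (h0 : hh k X 0 1 = 1) : dg k X (K k X hX) = 2 * (Curv2.genus k X : ℤ) - 2 :=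
  (Groth.Agent.S1612.result k X hX h0).2

theorem hh_zero_K (h0 : hh k X 0 1 = 1) : hh k X 0 (K k X hX) = Curv2.genus k X :=
  (Groth.Agent.S1612.result k X hX h0).1

/-- **Serre duality** for classes of invertible modules on a smooth proper curve. -/
theorem serre (h0 : hh k X 0 1 = 1) (c : Pic X) : hh k X 1 c = hh k X 0 (K k X hX * c⁻¹) := by
  have hp := hX.1
  have hi := hX.2.2.1
  have hdim := hX.2.2.2
  have r1 := rr k X hdim h0 (K k X hX)
  rw [dg_K k X hX h0, hh_zero_K k X hX h0] at r1
  have h1 : 0 < hh k X 1 (K k X hX) := by omega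
  have i1 : hh k X 0 (K k X hX * c⁻¹) ≤ hh k X 1 c := by
    apply hh_zero_le k X hdim
    rw [mul_comm (K k X hX), mul_inv_cancel_left]
    exact h1
  have i2 : hh k X 0 c ≤ hh k X 1 (K k X hX * c⁻¹) := by
    apply hh_zero_le k X hdim
    rw [inv_mul_cancel_right]
    exact h1
  have r2 := rr k X hdim h0 c
  have r3 := rr k X hdim h0 (K k X hX * c⁻¹)
  rw [dg_mul k X hdim, dg_inv k X hdim, dg_K k X hX h0] at r3
  omega

end K328.Serre
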